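import Cfsg.Agent.Lib.SuzOut.Words

/-! Data for local subgroups at the primes five and seven. -/

set_option autoImplicit false
set_option maxRecDepth 100000

namespace Cfsg.Agent.SuzLocal

/-- an element of order seven -/
def wX : List ℕ :=
  [5, 5, 5, 4, 6, 7, 5, 4, 0, 0, 6, 0, 2, 2, 4, 5, 5, 6]

/-- an element normalising it -/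
def wH : List ℕ :=
  [5, 7, 6, 7, 5, 5, 5, 6, 6, 7, 6, 5, 7, 6, 7, 6, 4, 4, 0, 0, 3, 4, 2, 2, 5, 2]

/-- triples singling out its centraliser -/
def xTests : List (ℕ × ℕ × ℕ) :=
  [(4, 1, 3), (4, 1, 2)]

/-- rounds from an orbit of it -/
def xRounds : List (List ℕ) :=
  [[74, 1150, 1218, 1330, 1374, 1424, 1560, 1707, 1754], [11, 44, 135, 142, 203, 253], [208]]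

/-- a neighbour of its fixed point -/
def xB1 : ℕ := 184

/-- the number of points used -/
def xLen : ℕ := 8

/-- its centraliser -/
def xRows : List (ℕ × ℕ × ℕ × List ℕ) :=
  [(0, 184, 0, []),
    (0, 252, 1, [5, 7, 7, 5, 7, 7, 7, 7, 7, 5, 7, 7, 6, 2, 2, 2, 5, 0, 5, 7, 2, 6, 5, 3, 6, 5, 6, 6, 7, 5, 2, 2, 2, 5, 0, 6]),
    (0, 935, 0, [5, 5, 5, 7, 7, 5, 7, 7, 7, 7, 7, 6, 5, 5, 5, 7, 6, 6, 0, 5, 2, 6, 1, 3, 4, 1, 2, 6, 4, 1, 7, 1, 4, 0]),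
    (0, 1051, 0, [5, 6, 7, 5, 5, 5, 6, 6, 5, 5, 0, 3, 5, 3, 7, 0, 5, 4, 5, 6, 4, 1, 3, 1, 3, 1, 1, 4, 4, 1, 7, 0]),
    (0, 1062, 0, [5, 5, 6, 5, 7, 7, 7, 6, 5, 6, 6, 5, 6, 5, 5, 6, 7, 7, 7, 4, 0, 0, 0, 5, 5, 1, 5, 5, 6, 5, 7, 4, 5, 4, 1, 3, 1, 3, 3, 1, 7, 2, 7, 0]),
    (0, 1301, 0, [5, 5, 7, 7, 5, 7, 7, 7, 7, 6, 5, 7, 7, 7, 6, 5, 6, 6, 5, 6, 5, 5, 6, 7, 7, 7, 6, 6, 6, 5, 7, 5, 6, 6, 7, 6, 6, 5, 7, 4, 6, 4, 2, 2, 2, 5, 0, 0, 0, 0, 0, 5, 4, 1]),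
    (0, 1304, 1, [5, 7, 5, 7, 7, 4, 0, 0, 0, 5, 5, 1, 5, 5, 6, 5, 7, 4, 5, 6, 6, 1, 3, 3, 1, 4, 6, 0, 4, 6, 7, 6]),
    (0, 1316, 0, [5, 5, 5, 4, 6, 7, 5, 4, 0, 0, 6, 0, 2, 2, 4, 5, 5, 6]),
    (0, 1327, 1, [5, 6, 5, 7, 7, 7, 6, 5, 6, 6, 5, 6, 5, 5, 6, 7, 7, 7, 6, 5, 6, 5, 5, 6, 4, 0, 0, 0, 5, 5, 1, 5, 5, 6, 7, 7, 7, 4, 5, 5, 7, 1, 7, 2, 7, 1, 4, 7, 1, 7, 2, 7, 1, 7, 4]),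
    (0, 1333, 0, [5, 7, 5, 5, 7, 5, 4, 0, 0, 0, 5, 5, 1, 5, 5, 5, 5, 6, 5, 6, 6, 7, 7, 1, 7, 2, 7, 1, 0, 0, 3, 6, 7, 6, 1]),
    (0, 1349, 1, [5, 7, 7, 5, 7, 7, 7, 7, 7, 5, 7, 6, 7, 7, 7, 6, 6, 7, 5, 6, 7, 7, 7, 4, 5, 6, 7, 7, 5, 4, 7, 0, 0, 6, 0, 2, 2]),
    (0, 1377, 0, [5, 7, 7, 5, 7, 7, 7, 7, 7, 5, 6, 7, 5, 5, 5, 6, 6, 6, 4, 5, 2, 1, 6, 5, 2, 4, 0]),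
    (0, 1396, 1, [7, 7, 5, 7, 7, 7, 7, 6, 5, 7, 6, 6, 7, 6, 7, 5, 6, 5, 6, 5, 5, 6, 7, 5, 6, 5, 6, 5, 5, 6, 7, 5, 6, 4, 6, 2, 1, 6, 5, 2, 4, 0, 5, 4, 2, 6, 5, 3, 0, 0, 6, 7, 3, 7, 2]),
    (0, 1402, 0, [5, 5, 5, 5, 7, 5, 5, 5, 6, 5, 7, 6, 6, 7, 6, 7, 6, 7, 5, 6, 6, 2, 7, 2, 5, 4, 2, 0, 0, 3, 6, 7, 6, 1]),
    (0, 1421, 0, [7, 7, 5, 7, 7, 7, 7, 6, 5, 7, 6, 6, 7, 6, 7, 5, 6, 5, 6, 5, 5, 6, 7, 5, 6, 7, 5, 6, 6, 4, 4, 7, 2, 6, 5, 3, 4, 6, 6, 6, 1, 3, 1, 3, 1, 7, 2, 7, 1]),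
    (0, 1439, 1, [5, 5, 5, 4, 0, 0, 0, 5, 5, 1, 5, 5, 6, 7, 5, 5, 6, 0, 4, 2, 1, 2, 2, 6, 0]),
    (0, 1444, 1, [5, 7, 7, 5, 7, 7, 7, 7, 7, 7, 5, 5, 7, 5, 7, 6, 6, 6, 5, 7, 4, 5, 6, 7, 7, 5, 4, 7, 6, 5, 4, 5, 6, 7]),
    (0, 1450, 0, [5, 7, 7, 5, 7, 7, 7, 7, 7, 5, 7, 7, 7, 7, 5, 7, 6, 5, 6, 5, 5, 6, 5, 5, 7, 5, 7, 6, 4, 6, 4, 2, 2, 2, 5, 0, 0, 4, 1, 3, 6, 3, 1, 3, 1, 3]),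
    (0, 1451, 1, [5, 5, 5, 7, 7, 5, 7, 7, 7, 7, 7, 5, 5, 5, 5, 7, 7, 5, 7, 6, 7, 7, 7, 6, 6, 7, 5, 6, 7, 7, 7, 2, 2, 2, 5, 0, 5, 7, 2, 6, 5, 3, 6, 1, 3, 3, 1, 4, 6, 0]),
    (0, 1454, 1, [7, 7, 5, 7, 7, 7, 7, 4, 0, 0, 0, 5, 5, 1, 5, 5, 6, 5, 7, 4, 0, 0, 0, 5, 5, 1, 5, 5, 6, 6, 5, 6, 5, 5, 6, 4, 0, 0, 0, 5, 5, 1, 5, 5, 5, 5, 6, 5, 6, 6, 5, 4, 6, 3, 1, 7, 2, 7, 0]),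
    (0, 1456, 0, [5, 5, 4, 0, 0, 0, 5, 5, 1, 5, 5, 6, 5, 7, 4, 0, 0, 0, 5, 5, 1, 5, 5, 6, 6, 6, 6, 5, 7, 5, 6, 6, 7, 6, 6, 4, 6, 4, 2, 2, 2, 5, 0, 5, 7, 4, 5, 1, 3, 3, 1, 4, 6, 0]),
    (0, 1458, 1, [4, 0, 0, 0, 5, 5, 1, 5, 5, 6, 5, 7, 4, 0, 0, 0, 5, 5, 1, 5, 5, 6, 6, 6, 7, 5, 6, 5, 5, 6, 6, 4, 6, 4, 2, 2, 2, 5, 0, 0, 0, 6, 0, 2, 2, 1, 3, 3, 1, 4, 6, 0]),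
    (0, 1468, 0, [7, 7, 5, 7, 7, 7, 7, 5, 5, 5, 7, 5, 5, 5, 4, 0, 0, 0, 5, 5, 1, 5, 5, 5, 5, 6, 5, 6, 4, 2, 6, 5, 3, 4, 4, 1, 3, 1, 3, 4, 2, 7, 1, 6, 4, 0]),
    (0, 1491, 0, [5, 7, 7, 5, 7, 7, 7, 7, 7, 7, 6, 5, 6, 5, 5, 6, 4, 0, 0, 0, 5, 5, 1, 5, 5, 6, 7, 7, 7, 6, 5, 5, 7, 4, 5, 2, 6, 4, 1, 7, 1, 4, 0]),
    (0, 1517, 1, [5, 5, 7, 5, 4, 0, 0, 0, 5, 5, 1, 5, 5, 6, 5, 7, 7, 6, 7, 6, 5, 6, 0, 6, 6, 6, 0, 6, 3]),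
    (0, 1521, 1, [5, 5, 7, 7, 7, 5, 4, 0, 0, 0, 5, 5, 1, 5, 5, 6, 7, 5, 5, 6, 5, 6, 6, 7, 5, 3, 1, 7, 2, 7, 0, 0, 0, 0, 5, 5, 1]),
    (0, 1522, 1, [5, 7, 7, 5, 7, 7, 7, 7, 7, 5, 7, 7, 6, 7, 5, 5, 5, 6, 6, 6, 5, 7, 7, 7, 6, 5, 6, 6, 5, 7, 6, 7, 6, 2, 2, 2, 5, 0, 0, 6, 6, 6, 0, 6, 3]),
    (0, 1525, 1, [5, 6, 5, 7, 6, 6, 7, 6, 7, 5, 6, 5, 6, 5, 5, 6, 7, 5, 4, 0, 0, 0, 5, 5, 1, 5, 5, 6, 7, 5, 5, 4, 6, 5, 7, 6, 7, 6, 4, 0, 0, 3, 6, 7, 6, 1]),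
    (0, 1541, 0, [5, 5, 5, 7, 5, 4, 6, 7, 5, 4, 0, 0, 6, 0, 2, 2, 6, 6, 6, 6, 6, 5, 7, 0, 4, 2, 1, 2, 2, 6, 0, 4]),
    (0, 1548, 1, [5, 7, 7, 5, 7, 7, 7, 7, 7, 5, 7, 7, 7, 7, 5, 7, 6, 7, 7, 7, 6, 6, 7, 5, 6, 7, 7, 7, 4, 6, 4, 2, 2, 2, 5, 0, 2, 6, 5, 3, 7, 7]),
    (0, 1577, 1, [5, 7, 7, 5, 7, 7, 7, 7, 7, 5, 6, 5, 6, 5, 5, 6, 5, 5, 7, 4, 0, 0, 0, 5, 5, 1, 7, 6, 2, 7, 1, 6, 4, 0, 4, 4]),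
    (0, 1594, 0, [7, 7, 5, 7, 7, 7, 7, 7, 5, 5, 5, 5, 7, 7, 5, 7, 6, 7, 5, 5, 5, 6, 6, 7, 6, 5, 7, 6, 1, 7, 2, 7, 1, 6, 5]),
    (0, 1608, 0, [5, 5, 5, 7, 5, 7, 5, 5, 7, 5, 6, 7, 5, 5, 5, 6, 6, 7, 6, 4, 4, 5, 0, 0, 0, 5, 5, 1, 7, 4, 4, 2, 1, 6, 5, 2, 4, 0]),
    (0, 1621, 0, [5, 5, 7, 7, 5, 7, 7, 7, 7, 6, 5, 7, 6, 6, 7, 6, 7, 5, 6, 5, 6, 5, 5, 6, 7, 5, 6, 5, 6, 5, 5, 6, 4, 0, 0, 0, 5, 5, 1, 5, 5, 6, 7, 7, 7, 6, 5, 4, 6, 0, 0, 3, 6, 7, 6, 1, 5, 5, 4, 2, 6, 5, 3, 1, 1, 4, 4, 1, 7, 0]),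
    (0, 1635, 0, [5, 5, 5, 7, 7, 4, 6, 7, 5, 4, 0, 0, 6, 0, 2, 2, 6, 6, 6, 7, 7, 6, 4, 2, 6, 4, 1, 7, 1, 4, 0]),
    (0, 1665, 1, [5, 5, 7, 7, 5, 7, 7, 7, 7, 7, 5, 6, 6, 6, 5, 7, 4, 5, 6, 7, 7, 5, 4, 7, 6, 4, 4, 7, 2, 6, 5, 3, 4, 6, 0, 0, 6, 0, 2, 2, 2, 1, 6, 5, 2, 4, 0]),
    (0, 1669, 0, [5, 7, 7, 5, 7, 7, 7, 7, 6, 7, 5, 5, 5, 6, 6, 6, 5, 5, 5, 7, 6, 6, 6, 7, 5, 5, 5, 6, 6, 6, 5, 4, 0, 0, 0, 5, 5, 1, 4, 4]),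
    (0, 1688, 1, [5, 5, 7, 7, 5, 7, 7, 7, 7, 6, 5, 7, 6, 6, 7, 6, 7, 5, 6, 5, 6, 5, 5, 6, 7, 5, 6, 6, 6, 5, 7, 5, 6, 6, 7, 6, 0, 4, 1, 3, 6, 3, 4, 6, 4, 6, 4, 7, 4, 6, 5, 4]),
    (0, 1696, 1, [5, 7, 7, 5, 7, 7, 7, 7, 7, 5, 5, 5, 5, 7, 7, 5, 7, 6, 5, 6, 5, 5, 6, 7, 5, 6, 6, 2, 6, 5, 3, 0, 6, 1, 7, 5, 4, 3]),
    (0, 1700, 1, [5, 7, 7, 7, 5, 6, 5, 7, 7, 7, 6, 5, 6, 6, 7, 4, 4, 5, 3, 3, 5, 6, 1, 5, 1, 3, 3, 4, 4, 5, 2, 0, 0, 0, 5, 5, 1]),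
    (0, 1705, 1, [7, 7, 5, 7, 7, 7, 7, 6, 5, 6, 5, 5, 6, 4, 4, 5, 0, 0, 0, 5, 5, 1, 7, 4, 0, 0, 6, 0, 2, 2, 6, 6]),
    (0, 1779, 0, [5, 5, 5, 7, 5, 7, 5, 5, 7, 5, 6, 5, 7, 6, 5, 5, 7, 5, 6, 7, 6, 6, 7, 7, 7, 6, 4, 5, 2, 6, 5, 3]),
    (1686, 21, 0, [5, 5, 5, 7, 7, 5, 7, 7, 7, 7, 7, 6, 4, 5, 6, 7, 4, 6, 5, 4, 6, 5, 7, 6, 6, 7, 7, 7, 6, 4, 5, 1, 2, 5, 7, 6, 2, 4, 1, 2, 7, 6, 2]),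
    (1686, 46, 0, [5, 7, 5, 7, 5, 5, 7, 5, 7, 6, 7, 6, 6, 5, 6, 7, 6, 7, 4, 6, 0, 0, 3, 6, 7, 6, 1, 5, 5, 4, 1, 3, 1, 3, 3, 3, 7, 1]),
    (1686, 122, 1, [5, 5, 5, 4, 0, 0, 0, 5, 5, 1, 5, 5, 6, 5, 7, 4, 0, 0, 0, 5, 5, 1, 5, 5, 6, 4, 6, 7, 5, 4, 0, 0, 6, 0, 2, 2, 6, 6, 6, 6, 4, 5, 5, 6, 4, 5, 7, 4, 1, 5, 0, 4, 1, 6, 2, 7, 4, 2, 7, 6, 2]),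
    (1686, 138, 1, [5, 5, 5, 7, 5, 6, 7, 5, 5, 5, 6, 6, 5, 5, 6, 7, 7, 6, 0, 4, 5, 2, 4, 0, 6, 0, 0, 2, 6, 4, 1]),
    (1686, 164, 1, [5, 5, 5, 7, 7, 5, 7, 7, 7, 7, 6, 5, 7, 6, 6, 7, 6, 7, 5, 6, 5, 6, 5, 5, 6, 7, 5, 6, 6, 7, 5, 6, 5, 5, 6, 6, 5, 1, 5, 6, 5, 7, 3, 0, 4, 5, 2, 4, 0, 6, 0, 3, 3, 7, 1]),
    (1686, 447, 1, [5, 5, 5, 7, 7, 5, 7, 7, 7, 7, 6, 5, 7, 6, 6, 7, 6, 7, 5, 6, 5, 6, 5, 5, 6, 7, 5, 4, 6, 7, 5, 4, 0, 0, 6, 0, 2, 2, 6, 6, 4, 0, 0, 0, 5, 5, 1, 5, 6, 0, 4, 1, 3, 6, 3, 7, 7, 3, 3, 7, 1]),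
    (1686, 449, 0, [5, 4, 6, 5, 7, 6, 7, 6, 4, 6, 5, 7, 6, 7, 6, 6, 5, 6, 5, 5, 6, 4, 0, 0, 0, 5, 5, 1, 5, 5, 6, 7, 7, 7, 6, 5, 7, 7, 4, 5, 1, 5, 6, 5, 7, 3, 0, 2, 6, 4, 1]),
    (1686, 451, 1, [5, 5, 5, 7, 7, 5, 7, 7, 7, 7, 4, 6, 5, 7, 6, 7, 6, 4, 6, 5, 7, 6, 7, 6, 6, 6, 6, 5, 7, 7, 5, 7, 6, 6, 7, 5, 6, 4, 6, 4, 2, 2, 2, 5, 0, 2, 6, 5, 3, 0, 4, 5, 2, 4, 0, 6, 0, 2, 7, 6, 2]),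
    (1686, 508, 1, [7, 5, 7, 5, 5, 7, 5, 7, 6, 7, 6, 6, 5, 6, 7, 6, 7, 4, 5, 1, 4, 0, 4, 1, 2, 7, 2, 4, 0, 3, 5, 3, 7, 0, 0, 0, 6, 0, 2, 2, 3, 3, 7, 1]),
    (1686, 529, 0, [7, 5, 7, 7, 6, 7, 5, 5, 5, 6, 6, 6, 5, 7, 7, 7, 6, 5, 6, 6, 7, 7, 0, 0, 0, 5, 5, 1, 0, 0, 3, 6, 7, 6, 1, 2, 7, 6, 2]),
    (1686, 577, 1, [5, 5, 5, 6, 5, 6, 5, 5, 6, 4, 0, 0, 0, 5, 5, 1, 5, 5, 6, 7, 7, 7, 6, 7, 5, 7, 6, 7, 4, 4, 1, 3, 1, 3, 0, 2, 6, 4, 1]),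
    (1686, 629, 0, [5, 7, 7, 5, 7, 7, 7, 7, 7, 5, 7, 7, 7, 6, 5, 6, 5, 5, 6, 4, 0, 0, 0, 5, 5, 1, 5, 5, 5, 5, 6, 5, 6, 6, 4, 6, 2, 1, 6, 5, 2, 4, 0, 5, 4, 2, 6, 5, 3, 1, 6, 4, 3, 1, 6, 1, 0, 2, 6, 4, 1]),
    (1686, 665, 1, [7, 7, 5, 5, 7, 5, 7, 4, 0, 0, 0, 5, 5, 1, 5, 5, 6, 7, 5, 5, 6, 4, 5, 1, 4, 0, 4, 1, 2, 7, 2, 4, 5, 4, 6, 3, 1, 7, 2, 7, 0, 3, 3, 7, 1]),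
    (1686, 702, 0, [5, 5, 5, 5, 7, 5, 5, 5, 4, 0, 0, 0, 5, 5, 1, 5, 5, 6, 7, 6, 7, 6, 2, 2, 2, 5, 0, 0, 4, 5, 2, 4, 0, 6, 0, 0, 2, 6, 4, 1]),
    (1686, 711, 0, [5, 5, 5, 7, 7, 5, 7, 7, 7, 7, 6, 5, 7, 6, 5, 5, 7, 5, 6, 7, 6, 6, 5, 0, 4, 2, 1, 2, 2, 6, 0, 5, 6, 6, 4, 2, 7, 2, 5, 4, 2, 6, 3, 3, 7, 1]),
    (1686, 713, 0, [5, 5, 5, 7, 7, 5, 7, 7, 7, 7, 7, 5, 7, 7, 7, 4, 6, 7, 5, 4, 0, 0, 6, 0, 2, 2, 6, 6, 7, 6, 4, 5, 6, 7, 4, 6, 5, 4, 4, 6, 2, 7, 2, 5, 4, 2, 3, 3, 7, 1]),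
    (1686, 715, 1, [5, 5, 7, 7, 5, 7, 7, 7, 7, 7, 5, 7, 7, 7, 6, 5, 7, 6, 6, 7, 6, 6, 4, 5, 6, 6, 1, 3, 3, 1, 4, 6, 0, 1, 5, 6, 5, 7, 3, 7, 6, 3, 3, 7, 1]),
    (1686, 755, 0, [5, 5, 6, 7, 5, 5, 5, 6, 6, 6, 5, 5, 5, 7, 6, 6, 6, 5, 7, 6, 5, 5, 7, 5, 6, 7, 6, 4, 6, 4, 2, 2, 2, 5, 0, 7, 4, 0, 0, 6, 0, 2, 2, 2, 7, 6, 2]),
    (1686, 782, 1, [7, 5, 7, 7, 7, 4, 6, 7, 5, 4, 0, 0, 6, 0, 2, 2, 6, 6, 7, 6, 6, 6, 5, 0, 0, 6, 0, 2, 2, 1, 3, 3, 1, 4, 6, 0, 3, 3, 7, 1]),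
    (1686, 789, 0, [5, 5, 5, 7, 7, 5, 7, 7, 7, 7, 7, 5, 7, 5, 5, 7, 5, 6, 7, 5, 5, 5, 6, 6, 5, 5, 6, 4, 6, 2, 1, 6, 5, 2, 4, 0, 5, 4, 4, 5, 1, 6, 1, 4, 0, 4, 0, 2, 7, 6, 2]),
    (1686, 809, 0, [5, 5, 7, 7, 5, 7, 7, 7, 7, 6, 5, 7, 6, 6, 7, 6, 7, 5, 6, 5, 6, 5, 5, 6, 7, 5, 6, 5, 5, 5, 7, 6, 6, 6, 6, 4, 6, 0, 0, 3, 6, 7, 6, 1, 5, 5, 4, 4, 4, 1, 4, 0, 4, 1, 2, 7, 2, 2, 7, 6, 2]),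
    (1686, 833, 0, [5, 5, 7, 7, 5, 7, 7, 7, 7, 7, 5, 7, 6, 4, 5, 6, 7, 4, 6, 5, 4, 6, 7, 7, 7, 6, 4, 5, 5, 7, 1, 7, 2, 7, 1, 4, 7, 1, 1, 4, 4, 1, 7, 0, 3, 3, 7, 1]),
    (1686, 840, 1, [5, 5, 7, 7, 5, 7, 7, 7, 7, 4, 0, 0, 0, 5, 5, 1, 5, 5, 6, 5, 7, 4, 0, 0, 0, 5, 5, 1, 5, 5, 6, 6, 5, 6, 5, 5, 6, 5, 5, 7, 5, 7, 6, 5, 4, 6, 2, 1, 6, 5, 2, 4, 0, 5, 4, 5, 1, 3, 1, 3, 4, 7, 0, 2, 6, 4, 1]),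
    (1686, 849, 0, [5, 5, 7, 5, 6, 4, 5, 6, 7, 4, 6, 5, 4, 6, 5, 7, 6, 6, 3, 3, 4, 4, 5, 2, 7, 6, 4, 4, 4, 4, 0, 4, 2, 1, 2, 2, 6, 0, 2, 7, 6, 2]),
    (1686, 855, 0, [5, 5, 5, 7, 7, 7, 5, 4, 6, 7, 5, 4, 0, 0, 6, 0, 2, 2, 6, 6, 4, 0, 0, 0, 5, 5, 1, 5, 5, 2, 2, 2, 5, 0, 0, 6, 2, 4, 3, 3, 4, 0, 0, 2, 6, 4, 1]),
    (1686, 863, 1, [5, 5, 7, 7, 5, 7, 7, 7, 7, 7, 5, 7, 7, 7, 6, 5, 6, 5, 5, 6, 5, 5, 7, 5, 7, 6, 4, 5, 6, 7, 4, 6, 5, 4, 4, 6, 0, 5, 2, 6, 1, 3, 4, 1, 0, 2, 6, 4, 1]),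
    (1686, 867, 0, [7, 7, 5, 7, 7, 7, 7, 4, 0, 0, 0, 5, 5, 1, 5, 5, 6, 5, 7, 4, 0, 0, 0, 5, 5, 1, 5, 5, 6, 6, 7, 5, 5, 5, 6, 6, 7, 4, 0, 0, 0, 5, 5, 1, 5, 6, 1, 7, 2, 7, 1, 5, 4, 0, 2, 6, 4, 1]),
    (1686, 877, 0, [5, 5, 7, 7, 5, 7, 7, 7, 7, 4, 0, 0, 0, 5, 5, 1, 5, 5, 6, 5, 7, 4, 0, 0, 0, 5, 5, 1, 5, 5, 6, 7, 6, 7, 6, 6, 5, 6, 7, 6, 4, 6, 0, 5, 2, 6, 1, 3, 4, 1, 6, 4, 2, 2, 2, 5, 0, 0, 6, 6, 6, 0, 6, 3, 3, 3, 7, 1]),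
    (1686, 918, 1, [7, 7, 5, 7, 7, 7, 7, 7, 5, 7, 7, 7, 7, 5, 7, 6, 5, 7, 7, 7, 6, 5, 6, 6, 4, 4, 5, 0, 0, 0, 5, 5, 1, 7, 4, 2, 7, 1, 6, 4, 0, 1, 2, 5, 7, 6, 2, 4, 1, 0, 2, 6, 4, 1]),
    (1686, 927, 1, [4, 0, 0, 0, 5, 5, 1, 5, 5, 6, 5, 7, 4, 0, 0, 0, 5, 5, 1, 5, 5, 6, 6, 5, 6, 5, 5, 6, 4, 0, 0, 0, 5, 5, 1, 5, 5, 6, 7, 7, 7, 4, 6, 2, 1, 6, 5, 2, 4, 0, 5, 4, 1, 7, 2, 7, 1, 1, 6, 4, 3, 1, 6, 1, 2, 7, 6, 2]),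
    (1686, 1010, 1, [7, 7, 5, 7, 7, 7, 7, 7, 6, 5, 7, 6, 5, 5, 7, 5, 6, 7, 6, 6, 5, 4, 6, 7, 5, 4, 0, 0, 6, 0, 2, 2, 4, 4, 5, 3, 3, 7, 1]),
    (1686, 1023, 1, [5, 5, 6, 5, 7, 7, 7, 6, 5, 6, 6, 5, 6, 5, 5, 6, 5, 7, 6, 5, 5, 7, 5, 5, 7, 5, 6, 6, 7, 5, 7, 6, 7, 4, 6, 7, 7, 0, 2, 6, 4, 1]),
    (1686, 1159, 1, [5, 7, 5, 7, 7, 7, 6, 7, 5, 5, 5, 6, 6, 7, 6, 5, 4, 4, 7, 5, 4, 5, 2, 6, 5, 3, 4, 6, 2, 6, 3, 6, 2, 6, 3, 2, 7, 6, 2]),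
    (1686, 1210, 0, [5, 5, 7, 5, 7, 7, 6, 6, 7, 5, 6, 5, 5, 6, 6, 7, 6, 7, 6, 0, 4, 1, 3, 6, 3, 1, 3, 1, 3, 2, 7, 6, 2]),
    (1686, 1212, 1, [5, 5, 7, 6, 7, 5, 5, 5, 6, 6, 7, 6, 5, 7, 4, 6, 4, 2, 2, 2, 5, 0, 0, 0, 0, 5, 5, 1, 0, 6, 6, 6, 0, 6, 3, 2, 7, 6, 2]),
    (1686, 1247, 0, [5, 5, 5, 7, 7, 5, 7, 7, 7, 7, 7, 5, 7, 7, 7, 7, 5, 7, 7, 6, 7, 6, 6, 5, 6, 7, 6, 6, 4, 6, 2, 1, 6, 5, 2, 4, 0, 5, 4, 3, 3, 5, 6, 1, 5, 1, 4, 6, 0, 2, 6, 4, 1]),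
    (1686, 1364, 0, [5, 7, 5, 7, 7, 6, 5, 6, 5, 5, 6, 5, 5, 7, 5, 7, 0, 3, 5, 3, 7, 0, 5, 4, 5, 6, 4, 1, 5, 0, 4, 1, 6, 2, 4, 5, 3, 3, 7, 1]),
    (1686, 1470, 1, [5, 5, 5, 7, 7, 5, 7, 7, 7, 7, 7, 5, 7, 7, 7, 6, 5, 5, 5, 7, 6, 6, 6, 5, 5, 7, 5, 1, 5, 0, 4, 1, 6, 2, 5, 7, 2, 7, 6, 2]),
    (1686, 1489, 1, [5, 5, 7, 7, 5, 7, 7, 7, 7, 6, 5, 7, 6, 6, 7, 6, 6, 7, 0, 5, 2, 6, 1, 3, 4, 1, 6, 6, 2, 7, 6, 2]),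
    (1686, 1736, 0, [7, 7, 5, 5, 7, 5, 7, 6, 7, 5, 6, 6, 4, 4, 7, 2, 6, 5, 3, 4, 6, 4, 6, 2, 1, 6, 5, 2, 4, 0, 5, 4, 1, 3, 1, 3, 0, 0, 6, 7, 3, 7, 2, 0, 2, 6, 4, 1]),
    (1686, 1775, 0, [7, 7, 5, 5, 7, 5, 7, 6, 5, 6, 5, 5, 6, 5, 5, 7, 6, 5, 4, 4, 5, 0, 0, 0, 5, 5, 1, 7, 4, 4, 5, 0, 4, 5, 2, 4, 0, 6, 0, 3, 3, 7, 1]),
    (1686, 1776, 1, [5, 5, 7, 7, 5, 7, 7, 7, 7, 6, 5, 7, 7, 7, 6, 5, 6, 6, 5, 6, 5, 5, 6, 5, 7, 6, 5, 6, 5, 5, 6, 4, 0, 0, 0, 5, 5, 1, 5, 5, 6, 7, 7, 7, 6, 5, 4, 6, 7, 5, 4, 0, 0, 6, 0, 2, 2, 1, 6, 4, 3, 1, 6, 1, 0, 2, 6, 4, 1]),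
    (1709, 24, 0, [5, 7, 7, 5, 7, 7, 7, 7, 7, 5, 7, 6, 7, 5, 5, 5, 6, 6, 5, 5, 6, 7, 5, 0, 0, 0, 5, 5, 1, 4, 6, 2, 7, 6, 2]),
    (1709, 157, 1, [5, 5, 5, 7, 5, 7, 5, 5, 7, 5, 6, 5, 6, 5, 5, 6, 4, 0, 0, 0, 5, 5, 1, 5, 5, 5, 5, 6, 5, 6, 6, 4, 6, 2, 1, 6, 5, 2, 4, 0, 5, 4, 2, 7, 2, 5, 4, 2, 3, 3, 7, 1]),
    (1709, 181, 1, [5, 7, 7, 6, 5, 6, 5, 5, 6, 4, 0, 0, 0, 5, 5, 1, 5, 5, 6, 7, 7, 7, 0, 4, 1, 3, 6, 3, 4, 6, 4, 6, 4, 7, 0, 3, 5, 3, 7, 0, 0, 6, 6, 6, 0, 6, 3, 0, 2, 6, 4, 1]),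
    (1709, 192, 1, [7, 5, 5, 5, 5, 7, 7, 5, 7, 6, 7, 5, 5, 5, 6, 6, 5, 5, 6, 4, 4, 7, 2, 6, 5, 3, 4, 6, 4, 4, 4, 2, 7, 6, 2]),
    (1709, 195, 1, [5, 5, 7, 7, 5, 7, 7, 7, 7, 7, 6, 7, 5, 5, 5, 6, 6, 5, 5, 6, 5, 7, 7, 0, 4, 1, 3, 6, 3, 2, 6, 3, 6, 2, 6, 3, 2, 7, 6, 2]),
    (1709, 210, 0, [5, 5, 5, 7, 7, 5, 7, 6, 7, 7, 7, 6, 6, 7, 5, 6, 7, 7, 7, 6, 5, 7, 4, 6, 4, 2, 2, 2, 5, 0, 2, 2, 2, 5, 0, 1, 5, 6, 5, 7, 3, 2, 7, 6, 2]),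
    (1709, 221, 1, [5, 5, 7, 7, 5, 7, 7, 7, 7, 7, 6, 7, 7, 7, 6, 6, 7, 5, 6, 5, 5, 7, 6, 5, 5, 7, 2, 2, 2, 5, 0, 5, 7, 0, 2, 6, 4, 1]),
    (1709, 238, 0, [5, 7, 5, 6, 5, 7, 6, 6, 7, 6, 6, 5, 4, 6, 0, 0, 3, 6, 7, 6, 1, 5, 5, 4, 4, 6, 4, 7, 3, 3, 7, 1]),
    (1709, 281, 0, [5, 5, 7, 7, 7, 5, 6, 7, 7, 7, 6, 6, 7, 5, 6, 7, 7, 7, 6, 7, 2, 7, 2, 5, 4, 2, 7, 4, 2, 7, 6, 2]),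
    (1709, 308, 0, [5, 7, 5, 7, 5, 5, 7, 5, 6, 4, 5, 6, 7, 4, 6, 5, 4, 6, 7, 7, 7, 6, 4, 0, 0, 0, 5, 5, 1, 7, 6, 2, 6, 5, 3, 1, 1, 4, 4, 1, 7, 0, 0, 2, 6, 4, 1]),
    (1709, 343, 1, [5, 7, 5, 5, 7, 5, 6, 6, 6, 5, 7, 7, 5, 7, 6, 6, 7, 5, 4, 6, 7, 5, 4, 0, 0, 6, 0, 2, 2, 3, 3, 5, 6, 1, 5, 1, 4, 4, 0, 2, 6, 4, 1]),
    (1709, 391, 1, [7, 5, 4, 4, 5, 4, 2, 7, 1, 6, 4, 0, 1, 3, 1, 3, 4, 7, 3, 3, 7, 1]),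
    (1709, 431, 0, [5, 5, 7, 7, 7, 5, 6, 7, 5, 5, 5, 6, 6, 5, 5, 6, 4, 5, 6, 6, 1, 3, 3, 1, 4, 6, 0, 0, 4, 1, 3, 6, 3, 1, 4, 0, 4, 1, 2, 7, 2, 0, 2, 6, 4, 1]),
    (1709, 436, 1, [5, 7, 7, 5, 7, 7, 7, 7, 5, 5, 5, 7, 5, 5, 5, 6, 7, 5, 6, 6, 4, 4, 7, 2, 6, 5, 3, 4, 6, 6, 5, 4, 4, 7, 5, 4, 5, 2, 6, 5, 3, 1, 5, 6, 5, 7, 3, 2, 6, 3, 6, 2, 6, 3, 3, 3, 7, 1]),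
    (1709, 453, 0, [5, 5, 7, 7, 5, 5, 7, 5, 7, 4, 0, 0, 0, 5, 5, 1, 5, 5, 6, 5, 7, 6, 4, 6, 4, 2, 2, 2, 5, 0, 5, 7, 2, 6, 5, 3, 7, 0, 2, 6, 4, 1]),
    (1709, 490, 1, [5, 5, 5, 6, 5, 7, 7, 7, 6, 5, 6, 6, 5, 6, 5, 5, 6, 5, 7, 4, 0, 0, 0, 5, 5, 1, 5, 5, 6, 5, 7, 4, 5, 5, 7, 1, 7, 2, 7, 1, 4, 7, 2, 6, 5, 3, 2, 6, 5, 3, 2, 7, 6, 2]),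
    (1709, 526, 1, [5, 5, 5, 7, 7, 5, 7, 7, 7, 7, 4, 0, 0, 0, 5, 5, 1, 5, 5, 6, 5, 7, 4, 0, 0, 0, 5, 5, 1, 5, 5, 6, 4, 6, 7, 5, 4, 0, 0, 6, 0, 2, 2, 6, 6, 7, 6, 5, 7, 7, 1, 7, 2, 7, 1, 2, 6, 4, 1, 7, 1, 4, 0, 2, 7, 6, 2]),
    (1709, 556, 0, [5, 5, 5, 7, 7, 5, 7, 7, 7, 7, 6, 5, 7, 7, 7, 6, 5, 6, 6, 5, 6, 5, 5, 6, 5, 7, 6, 4, 5, 6, 7, 4, 6, 5, 4, 6, 7, 7, 7, 6, 6, 7, 6, 5, 6, 2, 6, 5, 3, 1, 6, 1, 4, 0, 4, 0, 3, 3, 7, 1]),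
    (1709, 588, 0, [6, 7, 5, 5, 5, 6, 6, 6, 5, 5, 5, 7, 6, 6, 6, 4, 6, 4, 2, 2, 2, 5, 0, 5, 7, 1, 7, 2, 7, 1, 1, 4, 0, 4, 1, 2, 7, 2, 3, 3, 7, 1]),
    (1709, 622, 0, [7, 7, 5, 7, 7, 7, 7, 7, 5, 7, 7, 7, 7, 5, 7, 4, 0, 0, 0, 5, 5, 1, 5, 5, 5, 5, 6, 5, 6, 6, 5, 7, 0, 6, 1, 7, 5, 4, 3, 3, 3, 7, 1]),
    (1709, 638, 0, [5, 7, 7, 5, 5, 7, 5, 7, 6, 5, 6, 5, 5, 6, 5, 5, 7, 5, 7, 6, 5, 6, 1, 5, 6, 5, 7, 3, 2, 7, 6, 2]),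
    (1709, 656, 1, [5, 5, 5, 7, 7, 5, 7, 7, 7, 7, 7, 7, 7, 5, 6, 5, 6, 5, 5, 6, 6, 7, 4, 6, 4, 2, 2, 2, 5, 0, 6, 4, 4, 3, 3, 4, 4, 5, 2, 3, 3, 7, 1]),
    (1709, 723, 1, [5, 5, 5, 7, 7, 5, 7, 7, 7, 7, 7, 5, 7, 5, 5, 7, 5, 6, 5, 6, 5, 5, 6, 6, 7, 7, 7, 2, 7, 1, 6, 4, 0, 0, 4, 5, 2, 4, 0, 6, 0, 3, 3, 7, 1]),
    (1709, 745, 0, [5, 7, 5, 7, 7, 6, 5, 6, 5, 5, 6, 4, 0, 0, 0, 5, 5, 1, 5, 5, 5, 5, 6, 5, 6, 4, 5, 6, 7, 4, 6, 5, 4, 4, 0, 3, 5, 3, 7, 0, 0, 2, 6, 4, 1]),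
    (1709, 772, 0, [5, 5, 5, 7, 5, 5, 5, 6, 7, 5, 5, 5, 6, 6, 6, 5, 7, 4, 6, 4, 2, 2, 2, 5, 0, 0, 0, 0, 5, 5, 1, 2, 7, 6, 2]),
    (1709, 777, 0, [7, 7, 5, 7, 7, 7, 7, 7, 5, 7, 6, 5, 6, 5, 5, 6, 5, 5, 7, 5, 7, 6, 7, 7, 6, 0, 4, 1, 3, 6, 3, 6, 4, 0, 2, 6, 4, 1]),
    (1709, 852, 1, [5, 5, 6, 5, 7, 7, 7, 6, 5, 6, 6, 5, 6, 5, 5, 6, 7, 7, 7, 6, 5, 6, 5, 5, 6, 5, 5, 7, 5, 7, 4, 6, 0, 0, 3, 6, 7, 6, 1, 4, 7, 4, 4, 6, 0, 0, 3, 4, 2, 2, 5, 2, 3, 3, 7, 1]),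
    (1709, 883, 0, [5, 5, 5, 7, 5, 5, 7, 5, 6, 7, 7, 7, 6, 6, 7, 5, 6, 7, 7, 7, 6, 5, 4, 5, 1, 4, 0, 4, 1, 2, 7, 2, 4, 4, 4, 1, 1, 4, 4, 1, 7, 0, 3, 3, 7, 1]),
    (1709, 892, 1, [6, 5, 7, 6, 6, 7, 6, 7, 5, 6, 5, 6, 5, 5, 6, 7, 5, 7, 6, 7, 6, 6, 5, 6, 7, 6, 6, 5, 2, 2, 2, 5, 0, 5, 7, 2, 6, 5, 3, 4, 2, 1, 6, 5, 2, 4, 0, 0, 2, 6, 4, 1]),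
    (1709, 978, 0, [5, 4, 0, 0, 0, 5, 5, 1, 5, 5, 6, 6, 5, 6, 4, 6, 3, 1, 7, 2, 7, 0, 2, 7, 6, 2]),
    (1709, 995, 1, [7, 7, 5, 5, 7, 5, 7, 6, 4, 5, 6, 7, 4, 6, 5, 4, 6, 7, 7, 7, 6, 6, 6, 6, 5, 7, 4, 2, 6, 3, 6, 2, 6, 3, 2, 7, 6, 2]),
    (1709, 1091, 1, [5, 5, 5, 6, 7, 5, 5, 5, 6, 6, 6, 5, 5, 5, 7, 6, 6, 6, 4, 5, 6, 7, 4, 6, 5, 4, 6, 7, 7, 7, 6, 4, 0, 0, 0, 5, 5, 1, 5, 5, 0, 4, 1, 3, 6, 3, 5, 4, 0, 2, 6, 4, 1]),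
    (1709, 1108, 0, [5, 7, 7, 5, 7, 7, 7, 7, 4, 6, 5, 7, 6, 7, 6, 4, 6, 5, 7, 6, 7, 6, 4, 0, 0, 0, 5, 5, 1, 5, 5, 6, 5, 7, 6, 4, 4, 5, 0, 0, 0, 5, 5, 1, 7, 4, 4, 4, 2, 7, 2, 5, 4, 2, 3, 3, 7, 1]),
    (1709, 1146, 1, [5, 7, 7, 5, 7, 7, 7, 7, 7, 7, 4, 0, 0, 0, 5, 5, 1, 5, 5, 5, 5, 6, 5, 6, 4, 6, 4, 2, 2, 2, 5, 0, 0, 5, 2, 6, 1, 3, 4, 1, 2, 6, 4, 1, 7, 1, 4, 0, 0, 2, 6, 4, 1]),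
    (1709, 1204, 1, [5, 5, 7, 7, 5, 7, 7, 7, 7, 5, 5, 5, 7, 7, 5, 7, 6, 5, 6, 5, 5, 6, 4, 6, 4, 2, 2, 2, 5, 0, 2, 2, 2, 5, 0, 3, 1, 7, 2, 7, 0, 2, 7, 6, 2]),
    (1709, 1217, 0, [5, 5, 5, 7, 5, 7, 7, 7, 6, 7, 7, 7, 6, 6, 7, 5, 6, 5, 5, 7, 6, 4, 6, 4, 2, 2, 2, 5, 0, 0, 0, 0, 5, 5, 1, 1, 6, 4, 3, 1, 6, 1, 0, 2, 6, 4, 1]),
    (1709, 1242, 1, [5, 5, 5, 7, 7, 7, 5, 6, 5, 7, 6, 5, 5, 7, 5, 6, 7, 6, 0, 4, 1, 3, 6, 3, 4, 6, 4, 6, 4, 7, 4, 5, 0, 0, 3, 6, 7, 6, 1, 3, 3, 7, 1]),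
    (1709, 1257, 0, [5, 5, 7, 7, 5, 7, 7, 7, 7, 4, 0, 0, 0, 5, 5, 1, 5, 5, 6, 5, 7, 4, 0, 0, 0, 5, 5, 1, 5, 5, 6, 4, 6, 7, 5, 4, 0, 0, 6, 0, 2, 2, 6, 6, 7, 6, 5, 5, 7, 4, 5, 7, 4, 0, 2, 6, 4, 1]),
    (1709, 1275, 1, [7, 5, 7, 7, 6, 7, 6, 6, 5, 6, 7, 6, 6, 4, 5, 4, 1, 3, 1, 3, 2, 2, 2, 5, 0, 0, 2, 6, 4, 1]),
    (1709, 1484, 1, [7, 7, 5, 7, 7, 7, 7, 4, 0, 0, 0, 5, 5, 1, 5, 5, 6, 5, 7, 4, 0, 0, 0, 5, 5, 1, 5, 5, 6, 4, 6, 7, 5, 4, 0, 0, 6, 0, 2, 2, 6, 6, 7, 6, 5, 2, 2, 2, 5, 0, 5, 7, 2, 6, 5, 3, 2, 7, 2, 5, 4, 2, 1, 6, 1, 4, 0, 4, 0, 2, 7, 6, 2]),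
    (1709, 1485, 0, [5, 5, 7, 7, 5, 7, 7, 7, 7, 7, 7, 6, 6, 6, 5, 7, 7, 5, 7, 6, 6, 7, 5, 6, 7, 6, 7, 6, 4, 5, 7, 5, 3, 3, 7, 1]),
    (1709, 1600, 0, [5, 5, 5, 7, 7, 5, 7, 7, 7, 7, 5, 5, 5, 7, 7, 5, 7, 4, 0, 0, 0, 5, 5, 1, 5, 5, 6, 7, 5, 5, 6, 5, 5, 5, 4, 5, 2, 6, 5, 3, 2, 7, 6, 2]),
    (1780, 1, 1, [5, 5, 6, 5, 7, 7, 7, 6, 5, 6, 6, 5, 6, 5, 5, 6, 7, 7, 7, 6, 5, 7, 6, 6, 7, 6, 0, 4, 1, 3, 6, 3, 4, 6, 4, 6, 4, 0, 6, 1, 7, 5, 4, 3, 2, 1, 6, 5, 2, 4, 0, 0, 2, 6, 4, 1]),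
    (1780, 49, 1, [5, 5, 5, 7, 5, 5, 5, 5, 7, 7, 5, 7, 6, 6, 6, 5, 7, 5, 6, 6, 7, 6, 4, 6, 7, 5, 4, 0, 0, 6, 0, 2, 2, 0, 4, 1, 3, 6, 3, 0, 4, 5, 2, 4, 0, 6, 0, 2, 7, 6, 2]),
    (1780, 52, 1, [7, 6, 6, 6, 5, 7, 7, 5, 7, 6, 6, 7, 5, 6, 2, 6, 5, 3, 6, 2, 7, 6, 2]),
    (1780, 95, 0, [5, 6, 5, 7, 7, 7, 6, 5, 6, 6, 5, 6, 5, 5, 6, 7, 7, 7, 4, 0, 0, 0, 5, 5, 1, 5, 5, 6, 6, 7, 7, 6, 0, 0, 3, 4, 2, 2, 5, 2, 2, 7, 6, 2]),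
    (1780, 113, 0, [5, 5, 7, 5, 7, 7, 7, 6, 4, 5, 6, 7, 4, 6, 5, 4, 6, 7, 7, 7, 6, 7, 6, 7, 6, 4, 5, 1, 3, 1, 3, 3, 3, 7, 1]),
    (1780, 131, 0, [7, 7, 5, 7, 7, 7, 7, 7, 5, 7, 7, 7, 7, 5, 7, 6, 5, 7, 7, 7, 6, 5, 6, 4, 5, 6, 7, 7, 5, 4, 7, 1, 5, 0, 4, 1, 6, 2, 0, 0, 3, 6, 7, 6, 1, 0, 2, 6, 4, 1]),
    (1780, 176, 0, [5, 5, 5, 7, 7, 5, 7, 7, 7, 7, 4, 6, 5, 7, 6, 7, 6, 4, 6, 5, 7, 6, 7, 6, 6, 7, 5, 5, 5, 6, 6, 5, 5, 6, 7, 7, 7, 6, 0, 4, 1, 3, 6, 3, 5, 4, 3, 3, 7, 1]),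
    (1780, 241, 0, [5, 7, 7, 5, 7, 7, 7, 7, 5, 7, 5, 5, 7, 5, 6, 7, 5, 6, 6, 4, 4, 7, 2, 6, 5, 3, 4, 6, 4, 0, 0, 0, 5, 5, 1, 5, 5, 1, 7, 2, 7, 1, 7, 7, 2, 7, 6, 2]),
    (1780, 267, 1, [5, 5, 6, 7, 5, 5, 5, 6, 6, 6, 5, 5, 5, 7, 6, 6, 6, 7, 5, 5, 5, 6, 6, 6, 5, 7, 7, 7, 6, 5, 6, 6, 3, 3, 4, 4, 5, 2, 7, 6, 4, 4, 4, 4, 0, 0, 3, 6, 7, 6, 1, 3, 3, 4, 4, 5, 2, 2, 7, 6, 2]),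
    (1780, 282, 0, [5, 5, 5, 5, 5, 7, 5, 5, 5, 6, 5, 6, 5, 5, 6, 4, 0, 0, 0, 5, 5, 1, 5, 5, 5, 5, 6, 5, 6, 6, 5, 7, 6, 7, 6, 3, 3, 4, 4, 5, 2, 7, 7, 0, 2, 6, 4, 1]),
    (1780, 384, 1, [7, 6, 5, 6, 5, 5, 6, 7, 5, 6, 4, 5, 2, 6, 0, 4, 0, 7, 2, 6, 6, 4, 4, 4, 7, 5, 3, 3, 7, 1]),
    (1780, 504, 1, [6, 5, 7, 7, 7, 6, 5, 6, 6, 5, 6, 5, 5, 6, 7, 7, 7, 7, 6, 7, 6, 6, 5, 6, 7, 6, 7, 4, 2, 7, 2, 5, 4, 2, 3, 3, 7, 1]),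
    (1780, 523, 0, [5, 7, 7, 5, 7, 7, 7, 7, 6, 5, 7, 6, 6, 7, 6, 7, 5, 6, 5, 6, 5, 5, 6, 7, 5, 6, 6, 6, 5, 7, 5, 6, 6, 7, 6, 4, 5, 1, 4, 0, 4, 1, 2, 7, 2, 4, 5, 2, 2, 2, 5, 0, 1, 3, 1, 3, 0, 2, 6, 4, 1]),
    (1780, 570, 1, [5, 5, 7, 7, 5, 7, 7, 7, 7, 6, 5, 7, 7, 7, 6, 5, 6, 6, 5, 6, 5, 5, 6, 5, 7, 6, 5, 7, 6, 6, 7, 6, 7, 6, 5, 4, 5, 5, 4, 0, 2, 6, 4, 1]),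
    (1780, 575, 0, [5, 5, 7, 7, 6, 7, 5, 6, 6, 4, 4, 7, 2, 6, 5, 3, 4, 6, 6, 5, 5, 7, 5, 4, 1, 3, 1, 3, 2, 7, 6, 2]),
    (1780, 619, 0, [5, 5, 5, 7, 7, 5, 7, 7, 7, 7, 7, 5, 7, 7, 6, 6, 6, 5, 7, 5, 6, 6, 7, 6, 6, 7, 5, 6, 6, 2, 6, 5, 3, 5, 4, 3, 3, 7, 1]),
    (1780, 646, 1, [5, 5, 7, 7, 5, 7, 7, 7, 7, 4, 6, 5, 7, 6, 7, 6, 4, 6, 5, 7, 6, 7, 6, 4, 6, 7, 5, 4, 0, 0, 6, 0, 2, 2, 6, 6, 7, 6, 5, 4, 6, 0, 0, 3, 6, 7, 6, 1, 5, 5, 4, 4, 6, 7, 6, 2, 7, 6, 2]),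
    (1780, 669, 0, [5, 5, 5, 5, 7, 7, 5, 7, 7, 6, 7, 6, 6, 5, 6, 7, 6, 7, 6, 7, 2, 2, 2, 5, 0, 5, 7, 2, 6, 5, 3, 6, 2, 7, 2, 5, 4, 2, 1, 5, 6, 5, 7, 3, 3, 3, 7, 1]),
    (1780, 676, 0, [5, 5, 7, 5, 7, 7, 7, 6, 5, 5, 5, 7, 6, 6, 6, 5, 7, 6, 4, 6, 6, 6, 2, 7, 6, 2]),
    (1780, 686, 0, [5, 5, 7, 7, 7, 5, 4, 6, 7, 5, 4, 0, 0, 6, 0, 2, 2, 6, 6, 7, 6, 5, 7, 7, 4, 2, 6, 3, 6, 2, 6, 3, 0, 2, 6, 4, 1]),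
    (1780, 726, 1, [5, 5, 5, 7, 7, 5, 7, 7, 7, 7, 7, 7, 6, 4, 5, 6, 7, 4, 6, 5, 4, 6, 7, 7, 7, 6, 6, 5, 7, 6, 2, 7, 2, 5, 4, 2, 7, 4, 3, 3, 7, 1]),
    (1780, 743, 0, [5, 5, 6, 7, 5, 5, 5, 6, 6, 6, 5, 5, 5, 7, 6, 6, 6, 7, 5, 5, 5, 6, 6, 7, 6, 5, 4, 0, 0, 0, 5, 5, 1, 5, 6, 0, 0, 6, 0, 2, 2, 2, 1, 6, 5, 2, 4, 0, 3, 3, 7, 1]),
    (1780, 758, 0, [5, 7, 7, 5, 7, 7, 7, 7, 7, 5, 7, 7, 7, 4, 0, 0, 0, 5, 5, 1, 5, 5, 6, 7, 5, 5, 6, 5, 4, 0, 0, 0, 5, 5, 1, 4, 6, 0, 0, 3, 4, 2, 2, 5, 2, 0, 2, 6, 4, 1]),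
    (1780, 767, 1, [5, 5, 7, 7, 5, 7, 7, 7, 7, 7, 5, 6, 5, 7, 6, 5, 5, 7, 5, 6, 7, 6, 4, 6, 5, 7, 6, 7, 6, 4, 0, 4, 1, 3, 6, 3, 4, 6, 0, 2, 6, 4, 1]),
    (1780, 800, 0, [7, 7, 5, 7, 7, 7, 7, 7, 5, 7, 7, 4, 6, 7, 5, 4, 0, 0, 6, 0, 2, 2, 6, 6, 0, 4, 1, 3, 6, 3, 4, 6, 4, 6, 4, 7, 4, 4, 0, 6, 6, 5, 1, 3, 6, 1, 3, 3, 7, 1]),
    (1780, 810, 1, [5, 7, 7, 7, 5, 6, 7, 5, 6, 6, 4, 4, 7, 2, 6, 5, 3, 4, 6, 6, 7, 4, 5, 0, 6, 1, 7, 5, 4, 3, 0, 2, 6, 4, 1]),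
    (1780, 870, 1, [5, 7, 7, 5, 7, 7, 7, 7, 4, 6, 5, 7, 6, 7, 6, 4, 6, 5, 7, 6, 7, 6, 6, 5, 6, 5, 5, 6, 5, 5, 7, 5, 7, 0, 4, 1, 3, 6, 3, 4, 6, 4, 6, 4, 1, 7, 2, 7, 1, 2, 1, 6, 5, 2, 4, 0, 0, 2, 6, 4, 1]),
    (1780, 924, 0, [6, 5, 7, 7, 7, 6, 5, 6, 6, 5, 6, 5, 5, 6, 7, 7, 7, 4, 0, 0, 0, 5, 5, 1, 5, 5, 5, 5, 6, 5, 6, 6, 4, 4, 7, 2, 6, 5, 3, 4, 6, 1, 3, 1, 3, 4, 7, 2, 7, 6, 2]),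
    (1780, 940, 1, [5, 5, 5, 5, 5, 7, 7, 5, 7, 4, 6, 7, 5, 4, 0, 0, 6, 0, 2, 2, 6, 6, 6, 3, 3, 4, 4, 5, 2, 7, 6, 4, 4, 4, 4, 4, 5, 6, 7, 3, 3, 7, 1]),
    (1780, 953, 1, [7, 5, 7, 6, 6, 6, 5, 7, 7, 5, 7, 6, 6, 7, 5, 6, 4, 6, 4, 2, 2, 2, 5, 0, 0, 0, 3, 6, 7, 6, 1, 7, 4, 3, 3, 7, 1]),
    (1780, 957, 1, [5, 5, 4, 0, 0, 0, 5, 5, 1, 5, 5, 6, 5, 7, 4, 0, 0, 0, 5, 5, 1, 5, 5, 6, 4, 0, 0, 0, 5, 5, 1, 5, 5, 5, 5, 6, 5, 6, 6, 6, 6, 7, 5, 5, 4, 4, 7, 6, 3, 3, 7, 1]),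
    (1780, 973, 0, [5, 5, 5, 7, 7, 5, 7, 7, 7, 7, 7, 5, 5, 5, 5, 7, 7, 5, 7, 6, 7, 5, 6, 6, 4, 4, 7, 2, 6, 5, 3, 4, 6, 4, 4, 5, 4, 2, 7, 1, 6, 4, 0, 1, 3, 1, 3, 2, 7, 6, 2]),
    (1780, 1092, 0, [5, 5, 7, 7, 5, 7, 7, 7, 7, 7, 5, 5, 5, 5, 7, 7, 5, 7, 4, 6, 7, 5, 4, 0, 0, 6, 0, 2, 2, 6, 6, 4, 0, 0, 0, 5, 5, 1, 5, 5, 1, 7, 2, 7, 1, 6, 6, 2, 7, 6, 2]),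
    (1780, 1100, 1, [5, 7, 7, 7, 5, 6, 7, 5, 5, 5, 6, 6, 7, 6, 7, 6, 7, 6, 1, 3, 1, 3, 0, 6, 6, 5, 1, 3, 6, 1, 2, 7, 6, 2]),
    (1780, 1101, 1, [5, 5, 7, 7, 5, 7, 7, 7, 7, 7, 5, 7, 7, 6, 5, 6, 5, 5, 6, 7, 5, 6, 4, 5, 2, 6, 0, 4, 0, 7, 2, 6, 6, 4, 1, 3, 1, 3, 0, 6, 1, 7, 5, 4, 3, 0, 2, 6, 4, 1]),
    (1780, 1182, 1, [5, 5, 7, 5, 7, 7, 7, 6, 5, 5, 7, 5, 5, 7, 5, 6, 6, 7, 6, 5, 6, 1, 5, 0, 4, 1, 6, 2, 5, 7, 0, 2, 6, 4, 1]),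
    (1780, 1183, 0, [7, 5, 5, 5, 5, 7, 7, 5, 7, 6, 7, 5, 6, 6, 4, 4, 7, 2, 6, 5, 3, 4, 6, 4, 4, 5, 4, 2, 7, 1, 6, 4, 0, 0, 0, 6, 0, 2, 2, 3, 3, 7, 1]),
    (1780, 1185, 0, [5, 7, 5, 5, 5, 5, 7, 7, 5, 7, 6, 7, 5, 5, 5, 6, 6, 5, 5, 4, 6, 5, 7, 6, 7, 6, 4, 2, 6, 5, 3, 0, 6, 1, 7, 5, 4, 3, 0, 2, 6, 4, 1]),
    (1780, 1272, 1, [5, 5, 7, 7, 5, 7, 7, 7, 7, 7, 5, 7, 6, 5, 6, 5, 5, 6, 7, 5, 6, 7, 4, 6, 4, 2, 2, 2, 5, 0, 6, 4, 6, 2, 7, 2, 5, 4, 2, 2, 7, 6, 2]),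
    (1780, 1572, 1, [5, 5, 7, 7, 5, 7, 7, 7, 7, 7, 5, 7, 7, 7, 7, 5, 7, 7, 6, 7, 6, 6, 5, 6, 7, 6, 7, 6, 5, 4, 6, 0, 0, 3, 6, 7, 6, 1, 5, 5, 4, 4, 0, 0, 6, 0, 2, 2, 3, 3, 7, 1]),
    (1780, 1610, 0, [5, 5, 5, 6, 7, 5, 5, 5, 6, 6, 6, 5, 5, 5, 7, 6, 6, 4, 0, 0, 0, 5, 5, 1, 5, 5, 6, 5, 7, 7, 4, 6, 0, 0, 3, 6, 7, 6, 1, 4, 7, 4, 4, 5, 1, 3, 1, 3, 0, 2, 6, 4, 1]),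
    (1780, 1763, 1, [5, 5, 5, 7, 7, 5, 7, 7, 7, 7, 7, 7, 5, 5, 7, 5, 7, 6, 4, 5, 6, 7, 4, 6, 5, 4, 6, 7, 7, 7, 6, 6, 6, 3, 3, 4, 4, 5, 2, 3, 3, 4, 4, 5, 2, 2, 7, 6, 2])]

/-- the alternating part: images and words -/
def altW : List (List ℕ × List ℕ) :=
  [([0, 1, 2, 3], []),
    ([0, 2, 3, 1], [5, 5, 7, 7, 6, 7, 5, 6, 6, 4, 4, 7, 2, 6, 5, 3, 4, 6, 6, 5, 5, 7, 5, 4, 1, 3, 1, 3, 2, 7, 6, 2]),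
    ([0, 3, 1, 2], [5, 5, 5, 7, 7, 5, 7, 7, 7, 7, 7, 5, 7, 7, 7, 7, 5, 7, 7, 6, 7, 6, 6, 5, 6, 7, 6, 6, 4, 6, 2, 1, 6, 5, 2, 4, 0, 5, 4, 3, 3, 5, 6, 1, 5, 1, 4, 6, 0, 2, 6, 4, 1]),
    ([1, 0, 3, 2], [5, 5, 6, 7, 5, 5, 5, 6, 6, 6, 5, 5, 5, 7, 6, 6, 6, 5, 7, 6, 5, 5, 7, 5, 6, 7, 6, 4, 6, 4, 2, 2, 2, 5, 0, 7, 4, 0, 0, 6, 0, 2, 2, 2, 7, 6, 2]),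
    ([1, 2, 0, 3], [5, 7, 7, 5, 7, 7, 7, 7, 7, 5, 7, 7, 7, 7, 5, 7, 6, 5, 6, 5, 5, 6, 5, 5, 7, 5, 7, 6, 4, 6, 4, 2, 2, 2, 5, 0, 0, 4, 1, 3, 6, 3, 1, 3, 1, 3]),
    ([1, 3, 2, 0], [5, 7, 5, 7, 5, 5, 7, 5, 6, 4, 5, 6, 7, 4, 6, 5, 4, 6, 7, 7, 7, 6, 4, 0, 0, 0, 5, 5, 1, 7, 6, 2, 6, 5, 3, 1, 1, 4, 4, 1, 7, 0, 0, 2, 6, 4, 1]),
    ([2, 0, 1, 3], [5, 6, 7, 5, 5, 5, 6, 6, 5, 5, 0, 3, 5, 3, 7, 0, 5, 4, 5, 6, 4, 1, 3, 1, 3, 1, 1, 4, 4, 1, 7, 0]),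
    ([2, 1, 3, 0], [5, 5, 5, 7, 5, 5, 5, 6, 7, 5, 5, 5, 6, 6, 6, 5, 7, 4, 6, 4, 2, 2, 2, 5, 0, 0, 0, 0, 5, 5, 1, 2, 7, 6, 2]),
    ([2, 3, 0, 1], [5, 7, 7, 5, 7, 7, 7, 7, 7, 5, 7, 7, 7, 4, 0, 0, 0, 5, 5, 1, 5, 5, 6, 7, 5, 5, 6, 5, 4, 0, 0, 0, 5, 5, 1, 4, 6, 0, 0, 3, 4, 2, 2, 5, 2, 0, 2, 6, 4, 1]),
    ([3, 0, 2, 1], [7, 7, 5, 7, 7, 7, 7, 7, 5, 7, 7, 4, 6, 7, 5, 4, 0, 0, 6, 0, 2, 2, 6, 6, 0, 4, 1, 3, 6, 3, 4, 6, 4, 6, 4, 7, 4, 4, 0, 6, 6, 5, 1, 3, 6, 1, 3, 3, 7, 1]),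
    ([3, 1, 0, 2], [5, 5, 5, 7, 7, 5, 7, 7, 7, 7, 6, 5, 7, 6, 5, 5, 7, 5, 6, 7, 6, 6, 5, 0, 4, 2, 1, 2, 2, 6, 0, 5, 6, 6, 4, 2, 7, 2, 5, 4, 2, 6, 3, 3, 7, 1]),
    ([3, 2, 1, 0], [5, 5, 7, 7, 5, 7, 7, 7, 7, 7, 7, 6, 6, 6, 5, 7, 7, 5, 7, 6, 6, 7, 5, 6, 7, 6, 7, 6, 4, 5, 7, 5, 3, 3, 7, 1])]

/-- two commuting elements of order five -/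
def wU : List ℕ :=
  [7, 7, 5, 5, 7, 5, 7, 6, 5, 6, 5, 5, 6, 6, 4, 6, 2, 1, 6, 5, 2, 4, 0, 5, 4, 2, 7, 2, 5, 4, 2, 4, 7]

/-- the second -/
def wV : List ℕ :=
  [2, 2, 2, 5, 0, 5, 7, 2, 6, 5, 3, 6, 0, 3, 5, 3, 7, 0, 4, 5]

/-- their other common fixed point -/
def fixP : ℕ := 1285

/-- a third fixed point of the first -/
def fixQ : ℕ := 75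

/-- coset representatives of their normaliser: label, exponents of the images, word -/
def nReps : List ((ℕ × List ℕ) × (ℕ × ℕ × ℕ × ℕ) × List ℕ) :=
  [((0, [0, 1, 2]), (1, 0, 0, 1), []),
    ((0, [0, 2, 1]), (3, 3, 4, 2), [5, 5, 5, 7, 7, 5, 7, 7, 7, 7, 6, 5, 7, 7, 7, 6, 5, 6, 6, 5, 6, 5, 5, 6, 5, 7, 4, 0, 0, 0, 5, 5, 1, 5, 5, 6, 5, 7, 6, 7, 5, 6, 7, 7, 7, 0, 0, 3, 6, 7, 6, 1]),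
    ((0, [1, 0, 2]), (1, 0, 1, 4), [6, 5, 7, 7, 7, 6, 5, 6, 6, 5, 6, 5, 5, 6, 7, 7, 7, 4, 5, 6, 7, 7, 5, 4, 7, 2, 2, 2, 5, 0, 2, 1, 6, 5, 2, 4, 0]),
    ((0, [1, 2, 0]), (1, 2, 1, 3), [7, 7, 6, 5, 7, 6, 6, 7, 6, 2, 2, 2, 5, 0, 2, 1, 6, 5, 2, 4, 0]),
    ((0, [2, 0, 1]), (3, 3, 4, 1), [5, 5, 5, 7, 7, 5, 7, 7, 7, 7, 7, 5, 7, 5, 5, 7, 5, 6, 5, 6, 5, 5, 6, 5, 5, 7, 2, 2, 2, 5, 0, 5, 7, 2, 6, 5, 3, 6, 0, 0, 6, 0, 2, 2, 7]),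
    ((0, [2, 1, 0]), (1, 2, 0, 4), [5, 5, 7, 5, 7, 7, 4, 0, 0, 0, 5, 5, 1, 5, 5, 6, 6, 7, 6, 5, 6, 1, 7, 2, 7, 1, 0, 4, 2, 1, 2, 2, 6, 0]),
    ((1, [0, 1, 2]), (2, 0, 0, 2), [5, 5, 5, 6, 5, 7, 7, 7, 6, 5, 6, 6, 5, 6, 5, 5, 6, 7, 7, 7, 6, 4, 5, 6, 7, 4, 6, 5, 4, 6, 7, 7, 7, 6, 6, 5, 0, 4, 2, 1, 2, 2, 6, 0, 5, 6, 6, 4, 0, 0, 3, 6, 7, 6, 1, 0, 6, 2, 4, 3, 3, 4, 0, 1, 4, 3, 5]),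
    ((1, [0, 2, 1]), (1, 1, 3, 4), [7, 5, 7, 5, 5, 7, 5, 6, 5, 7, 6, 6, 7, 6, 7, 4, 4, 5, 4, 2, 7, 1, 6, 4, 0, 2, 6, 5, 3, 7, 7, 1, 4, 3, 5]),
    ((1, [1, 0, 2]), (2, 0, 2, 3), [5, 7, 5, 7, 7, 7, 7, 5, 7, 6, 5, 6, 5, 5, 6, 5, 5, 7, 5, 7, 6, 5, 4, 5, 1, 4, 0, 4, 1, 2, 7, 2, 4, 4, 4, 6, 7, 1, 4, 3, 5]),
    ((1, [1, 2, 0]), (2, 4, 2, 1), [7, 5, 7, 7, 7, 6, 7, 5, 5, 5, 6, 6, 7, 6, 5, 2, 2, 2, 5, 0, 5, 7, 2, 6, 5, 3, 2, 2, 2, 5, 0, 7, 1, 4, 3, 5]),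
    ((1, [2, 0, 1]), (1, 1, 3, 2), [5, 7, 7, 7, 5, 6, 6, 6, 5, 7, 5, 6, 6, 7, 6, 6, 7, 7, 6, 4, 5, 0, 0, 0, 5, 5, 1, 1, 4, 3, 5]),
    ((1, [2, 1, 0]), (2, 4, 0, 3), [5, 7, 5, 7, 7, 7, 6, 5, 6, 5, 5, 6, 5, 5, 7, 5, 7, 6, 7, 4, 2, 1, 6, 5, 2, 4, 0, 1, 4, 3, 5]),
    ((2, [0, 1, 2]), (4, 0, 0, 4), [5, 5, 5, 6, 7, 5, 5, 5, 6, 6, 6, 5, 5, 5, 7, 6, 6, 7, 6, 7, 6, 6, 5, 6, 7, 6, 6, 5, 7, 7, 4, 4, 7]),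
    ((2, [0, 2, 1]), (2, 2, 1, 3), [7, 7, 5, 7, 7, 7, 7, 6, 5, 7, 7, 7, 6, 5, 6, 6, 5, 6, 5, 5, 6, 7, 7, 7, 6, 5, 7, 6, 5, 5, 7, 5, 6, 7, 6, 4, 4, 5, 3, 3, 5, 6, 1, 5, 1, 0, 6, 6, 6, 0, 6, 3]),
    ((2, [1, 0, 2]), (4, 0, 4, 1), [5, 5, 6, 5, 7, 7, 7, 6, 5, 6, 6, 5, 6, 5, 5, 6, 7, 7, 7, 6, 4, 5, 6, 7, 4, 6, 5, 4, 6, 7, 7, 7, 6, 6, 3, 3, 4, 4, 5, 2, 7, 6, 4, 4, 4, 4, 2, 2, 2, 5, 0, 2, 1, 6, 5, 2, 4, 0]),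
    ((2, [1, 2, 0]), (4, 3, 4, 2), [5, 5, 7, 7, 5, 7, 7, 7, 7, 6, 5, 7, 6, 6, 7, 6, 7, 5, 6, 5, 6, 5, 5, 6, 7, 5, 6, 5, 7, 7, 7, 6, 5, 6, 6, 7, 5, 6, 7, 7, 7, 2, 2, 2, 5, 0, 2, 1, 6, 5, 2, 4, 0]),
    ((2, [2, 0, 1]), (2, 2, 1, 4), [5, 5, 5, 7, 7, 5, 7, 7, 7, 7, 7, 5, 5, 5, 5, 7, 7, 5, 7, 6, 7, 5, 5, 5, 6, 6, 5, 5, 4, 4, 7, 5, 4, 5, 2, 6, 5, 3, 1, 5, 6, 5, 7, 3, 1, 6, 1, 4, 0, 4, 0]),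
    ((2, [2, 1, 0]), (4, 3, 0, 1), [5, 5, 5, 7, 7, 5, 7, 7, 7, 7, 7, 5, 4, 6, 7, 5, 4, 0, 0, 6, 0, 2, 2, 6, 6, 7, 6, 5, 4, 0, 0, 0, 5, 5, 1, 0, 4, 1, 3, 6, 3, 1, 3, 1, 3]),
    ((3, [0, 1, 2]), (3, 0, 0, 3), [4, 0, 0, 0, 5, 5, 1, 5, 5, 6, 5, 7, 4, 0, 0, 0, 5, 5, 1, 5, 5, 6, 6, 7, 5, 6, 6, 4, 4, 7, 2, 6, 5, 3, 4, 6, 4, 0, 0, 0, 5, 5, 1, 5, 5, 2, 6, 5, 3, 5, 4, 1, 4, 3, 5]),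
    ((3, [0, 2, 1]), (4, 4, 2, 1), [5, 5, 5, 5, 5, 5, 7, 7, 5, 7, 6, 6, 6, 5, 7, 4, 5, 6, 7, 7, 5, 4, 7, 6, 6, 6, 2, 7, 1, 6, 4, 0, 1, 4, 0, 4, 1, 2, 7, 2, 1, 4, 3, 5]),
    ((3, [1, 0, 2]), (3, 0, 3, 2), [5, 5, 5, 7, 5, 5, 5, 5, 7, 7, 5, 7, 6, 5, 6, 5, 5, 6, 7, 5, 6, 4, 5, 2, 6, 0, 4, 0, 7, 2, 6, 6, 4, 1, 7, 2, 7, 1, 1, 5, 6, 5, 7, 3, 1, 4, 3, 5]),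
    ((3, [1, 2, 0]), (3, 1, 3, 4), [5, 5, 5, 7, 7, 5, 7, 7, 7, 7, 7, 5, 7, 7, 7, 7, 5, 7, 4, 0, 0, 0, 5, 5, 1, 5, 5, 6, 7, 5, 5, 6, 5, 5, 5, 6, 6, 2, 7, 2, 5, 4, 2, 1, 4, 3, 5]),
    ((3, [2, 0, 1]), (4, 4, 2, 3), [5, 5, 5, 7, 7, 5, 7, 7, 7, 7, 7, 5, 7, 7, 4, 0, 0, 0, 5, 5, 1, 5, 5, 6, 5, 7, 6, 5, 4, 6, 0, 0, 3, 6, 7, 6, 1, 5, 5, 4, 1, 5, 6, 5, 7, 3, 1, 4, 0, 4, 1, 2, 7, 2, 1, 4, 3, 5]),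
    ((3, [2, 1, 0]), (3, 1, 0, 2), [5, 5, 4, 0, 0, 0, 5, 5, 1, 5, 5, 6, 5, 7, 4, 0, 0, 0, 5, 5, 1, 5, 5, 6, 6, 6, 6, 5, 7, 7, 5, 7, 6, 6, 7, 5, 0, 3, 5, 3, 7, 0, 5, 4, 5, 6, 4, 4, 6, 0, 5, 2, 6, 1, 3, 4, 1, 1, 4, 3, 5])]

/-- the factor set -/
def nTab : List (ℕ × ℕ) :=
  [(0, 0), (0, 0), (0, 0), (0, 0), (0, 0), (0, 0), (0, 0), (0, 0), (0, 0), (0, 0), (0, 0), (0, 0), (0, 0), (0, 0), (0, 0), (0, 0), (0, 0), (0, 0), (0, 0), (0, 0), (0, 0), (0, 0), (0, 0), (0, 0), (0, 0), (2, 4), (3, 1), (4, 4), (3, 0), (3, 1), (3, 1), (3, 1), (1, 4), (0, 0), (2, 4), (1, 0), (0, 0), (3, 1), (2, 4), (1, 1), (2, 0), (2, 4), (2, 4), (2, 4), (4, 1), (0, 0), (3, 1), (4, 0), (0,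 0), (4, 4), (0, 0), (1, 1), (1, 3), (4, 2), (3, 4), (0, 2), (2, 1), (0, 3), (2, 3), (3, 2), (0, 0), (1, 1), (0, 0), (4, 4), (4, 2), (1, 3), (2, 1), (0, 3), (3, 4), (0, 2), (3, 2), (2, 3), (0, 0), (4, 4), (1, 3), (0, 0), (0, 0), (0, 3), (1, 1), (2, 0), (4, 4), (4, 4), (0, 0), (4, 1), (0, 0), (1, 1), (4, 2), (0, 0), (0, 0), (0, 2), (4, 4), (3, 0), (1, 1), (1, 1), (0, 0), (1, 4), (0, 0), (0, 2), (1, 1), (0, 0), (0, 0), (4, 2), (0, 0), (1, 4), (3, 0), (4, 4), (1, 1), (1, 1), (0, 0), (0, 3), (4, 4), (0, 0), (0, 0), (1, 3), (0, 0), (4, 1), (2, 0), (1, 1), (4, 4), (4, 4), (0, 0), (4, 0), (1, 3), (0, 4), (2, 0), (3, 3), (4, 4), (4, 4), (1, 1), (2, 0), (4, 1), (0,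 0), (0, 0), (1, 0), (4, 2), (0, 1), (3, 0), (2, 2), (1, 1), (1, 1), (4, 4), (3, 0), (1, 4), (0, 0), (0, 0), (1, 2), (0, 0), (2, 3), (2, 2), (1, 4), (2, 0), (3, 2), (0, 4), (4, 0), (3, 1), (4, 1), (0, 0), (4, 3), (0, 0), (3, 2), (3, 3), (4, 1), (3, 0), (2, 3), (0, 1), (1, 0), (2, 4), (1, 4), (0, 0), (1, 2), (2, 0), (4, 3), (0, 2), (4, 4), (3, 2), (2, 0), (0, 1), (1, 1), (3, 4), (2, 0), (0, 0), (4, 3), (3, 0), (1, 2), (0, 3), (1, 1), (2, 3), (3, 0), (0, 4), (4, 4), (2, 1), (3, 0), (0, 0), (1, 2), (0, 0), (2, 3), (2, 2), (1, 4), (3, 3), (4, 2), (4, 1), (3, 0), (1, 4), (1, 3), (0, 0), (4, 3), (0, 0), (3, 2), (3, 3), (4, 1), (2, 2), (1, 3), (1, 4), (2, 0), (4,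 1), (4, 2), (0, 0), (1, 2), (2, 0), (4, 3), (0, 2), (4, 4), (4, 2), (3, 3), (3, 4), (3, 3), (2, 1), (1, 0), (0, 0), (4, 3), (3, 0), (1, 2), (0, 3), (1, 1), (1, 3), (2, 2), (2, 1), (2, 2), (3, 4), (4, 0), (0, 0), (2, 1), (3, 0), (1, 2), (3, 3), (2, 0), (2, 0), (3, 0), (4, 3), (4, 0), (3, 1), (0, 4), (0, 0), (3, 4), (2, 0), (4, 3), (2, 2), (3, 0), (3, 0), (2, 0), (1, 2), (1, 0), (2, 4), (0, 1), (0, 0), (2, 1), (3, 0), (1, 2), (3, 3), (2, 0), (0, 3), (0, 2), (0, 3), (0, 3), (2, 1), (4, 1), (0, 0), (3, 4), (2, 0), (4, 3), (2, 2), (3, 0), (0, 2), (0, 3), (0, 2), (0, 2), (3, 4), (1, 4), (0, 0), (3, 3), (3, 4), (0, 2), (3, 4), (3, 1), (1, 0), (4, 2), (4, 4), (4,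 4), (0, 2), (2, 0), (0, 0), (2, 2), (2, 1), (0, 3), (2, 1), (2, 4), (4, 0), (1, 3), (1, 1), (1, 1), (0, 3), (3, 0), (0, 0), (1, 4), (0, 3), (1, 3), (0, 4), (0, 0), (3, 4), (1, 1), (3, 0), (4, 4), (3, 3), (1, 0), (0, 0), (4, 1), (0, 2), (4, 2), (0, 1), (0, 0), (2, 1), (4, 4), (2, 0), (1, 1), (2, 2), (4, 0), (0, 0), (4, 4), (3, 4), (4, 1), (2, 1), (4, 4), (3, 1), (4, 0), (2, 3), (4, 1), (3, 4), (4, 3), (0, 0), (1, 1), (2, 1), (1, 4), (3, 4), (1, 1), (2, 4), (1, 0), (3, 2), (1, 4), (2, 1), (1, 2), (0, 0), (4, 4), (2, 1), (0, 2), (3, 4), (3, 3), (0, 4), (2, 2), (0, 0), (0, 0), (0, 2), (3, 4), (0, 0), (1, 1), (3, 4), (0, 3), (2, 1), (2, 2), (0, 1), (3, 3), (0,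 0), (0, 0), (0, 3), (2, 1), (0, 0), (3, 1), (2, 3), (0, 2), (3, 4), (4, 4), (1, 0), (3, 3), (1, 4), (0, 0), (4, 1), (1, 4), (0, 0), (2, 4), (3, 2), (0, 3), (2, 1), (1, 1), (4, 0), (2, 2), (4, 1), (0, 0), (1, 4), (4, 1), (0, 0), (4, 3), (2, 1), (0, 3), (1, 4), (0, 3), (2, 1), (0, 3), (3, 3), (2, 4), (1, 1), (2, 0), (0, 0), (1, 2), (3, 4), (0, 2), (4, 1), (0, 2), (3, 4), (0, 2), (2, 2), (3, 1), (4, 4), (3, 0), (0, 0), (2, 1), (3, 4), (3, 4), (1, 2), (2, 2), (4, 0), (1, 0), (4, 0), (0, 4), (2, 1), (3, 4), (0, 0), (3, 4), (2, 1), (2, 1), (4, 3), (3, 3), (1, 0), (4, 0), (1, 0), (0, 1), (3, 4), (2, 1), (0, 0), (2, 1), (1, 4), (1, 4), (3, 2), (4, 2), (3, 3), (2,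 2), (4, 3), (3, 3), (2, 3), (0, 0), (0, 0), (3, 4), (4, 1), (4, 1), (2, 3), (1, 3), (2, 2), (3, 3), (1, 2), (2, 2), (3, 2), (0, 0), (0, 0), (2, 1), (3, 4), (3, 4), (1, 2), (2, 2), (3, 2), (0, 0), (0, 3), (1, 4), (4, 3), (1, 2), (0, 0), (3, 4), (2, 1), (2, 1), (4, 3), (3, 3), (2, 3), (0, 0), (0, 2), (4, 1), (1, 2), (4, 3), (0, 0), (2, 1), (1, 4), (1, 4), (3, 2), (4, 2), (2, 3), (1, 4), (1, 0), (1, 1), (3, 1), (1, 0), (0, 0), (3, 4), (4, 1), (4, 1), (2, 3), (1, 3), (3, 2), (4, 1), (4, 0), (4, 4), (2, 4), (4, 0), (0, 0), (1, 2), (0, 4), (4, 0), (0, 1), (1, 1), (4, 0), (1, 2), (0, 1), (0, 4), (2, 1), (2, 1), (0, 0), (4, 3), (0, 1), (1, 0), (0, 4), (4, 4), (1,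 0), (4, 3), (0, 4), (0, 1), (3, 4), (3, 4), (0, 0), (1, 2), (0, 4), (4, 0), (0, 1), (1, 1), (1, 2), (4, 0), (4, 1), (4, 1), (3, 1), (3, 4), (0, 0), (4, 3), (0, 1), (1, 0), (0, 4), (4, 4), (4, 3), (1, 0), (1, 4), (1, 4), (2, 4), (2, 1)]

/-- for each line, a representative moving it to one of the two axes -/
def lineWit : List ℕ :=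
  [0, 0, 0, 0, 0, 0, 1, 4, 1, 2, 0, 1, 1, 2, 4, 0, 4, 2, 1, 1, 0, 2, 1, 4, 1]

end Cfsg.Agent.SuzLocal
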