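import Cfsg.Agent.Lib.SuzOut.CentCert
import Cfsg.Agent.Lib.SuzLocal.Data57
import Mathlib.GroupTheory.Sylow
import Mathlib.Data.Nat.Factorization.Basic

/-! Shared facts on words in the group on 1782 points. -/

set_option autoImplicit false
set_option maxRecDepth 100000

namespace Cfsg.Agent.SuzLocal

open Cfsg.Agent.SuzOut
open Cfsg.Agent.RigidGraph.Suz (suzGroup card_suzGroup)

attribute [local irreducible] lets wordVal RigidGraph.Suz.nodes RigidGraph.permOf RigidGraph.Suz.graph RigidGraph.Suz.outer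

/-- a power of a word -/
def powW (w : List ℕ) (n : ℕ) : List ℕ := (List.replicate n w).flatten

theorem powW_lt {w : List ℕ} (hw : ∀ i ∈ w, i < 8) (n : ℕ) : ∀ i ∈ powW w n, i < 8 := by
  intro i hi
  obtain ⟨l, hl, hil⟩ := List.mem_flatten.1 hi
  exact hw i ((List.eq_of_mem_replicate hl) ▸ hil)

theorem val_powW (w : List ℕ) (n : ℕ) : wordVal (powW w n) = wordVal w ^ n := by
  induction n with
  | zero => simp [powW, val_nil]
  | succ n ih =>
    have e : powW w (n + 1) = w ++ powW w n := by simp [powW, List.replicate_succ]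
    rw [e, wordVal_append, ih, pow_succ']

theorem val_comm {u v : List ℕ} (hu : ∀ i ∈ u, i < 8) (hv : ∀ i ∈ v, i < 8)
    (h : keyOf (u ++ v) = keyOf (v ++ u)) : Commute (wordVal u) (wordVal v) := by
  show wordVal u * wordVal v = wordVal v * wordVal u
  rw [← wordVal_append, ← wordVal_append]
  exact eq_of_key (append_lt hu hv) (append_lt hv hu) h

theorem val_conj {u v v' : List ℕ} (hu : ∀ i ∈ u, i < 8) (hv : ∀ i ∈ v, i < 8) (hv' : ∀ i ∈ v', i < 8)
    (h : keyOf (u ++ v) = keyOf (v' ++ u)) : wordVal u * wordVal v * (wordVal u)⁻¹ = wordVal v' := by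
  rw [mul_inv_eq_iff_eq_mul, ← wordVal_append, ← wordVal_append]
  exact eq_of_key (append_lt hu hv) (append_lt hv' hu) h

theorem factorization_card {p k m : ℕ} (hp : p.Prime) (hm : ¬ p ∣ m) (h : 448345497600 = p ^ k * m) :
    (Nat.card ↥suzGroup).factorization p = k := by
  have hm0 : m ≠ 0 := fun e => hm (e ▸ dvd_zero p)
  rw [card_suzGroup, h, Nat.factorization_mul (pow_ne_zero _ hp.ne_zero) hm0, Finsupp.add_apply,
    hp.factorization_pow, Finsupp.single_eq_same, Nat.factorization_eq_zero_of_not_dvd hm, add_zero]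

end Cfsg.Agent.SuzLocal
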