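import Mathlib.GroupTheory.Sylow
import Mathlib.GroupTheory.Subgroup.Centralizer

/-! Moving centralisers and normalisers along an isomorphism. -/

set_option autoImplicit false

namespace Cfsg.Agent.SuzLocal

variable {G H : Type*} [Group G] [Group H]

theorem map_centralizer_equiv (e : G ≃* H) (B : Subgroup G) :
    (Subgroup.centralizer (B : Set G)).map e.toMonoidHom =
      Subgroup.centralizer (B.map e.toMonoidHom : Set H) := by
  refine le_antisymm ?_ fun y hy => ?_
  · rw [Subgroup.coe_map]
    exact Subgroup.map_centralizer_le_centralizer_image _ _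
  · refine ⟨e.symm y, fun b hb => ?_, e.apply_symm_apply y⟩
    apply e.injective
    rw [map_mul, map_mul, e.apply_symm_apply]
    exact hy (e b) ⟨b, hb, rfl⟩

/-- The centralisers correspond. -/
noncomputable def centEquiv (e : G ≃* H) (B : Subgroup G) :
    ↥(Subgroup.centralizer (B : Set G)) ≃* ↥(Subgroup.centralizer (B.map e.toMonoidHom : Set H)) :=
  (e.subgroupMap _).trans (MulEquiv.subgroupCongr (map_centralizer_equiv e B))

theorem card_normalizer_map (e : G ≃* H) (B : Subgroup G) :
    Nat.card ↥(Subgroup.normalizer (B.map e.toMonoidHom : Set H)) =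
      Nat.card ↥(Subgroup.normalizer (B : Set G)) := by
  rw [← Subgroup.map_equiv_normalizer_eq]
  exact Nat.card_congr (e.subgroupMap _).toEquiv.symm

/-- The quotient of a normaliser by its subgroup is preserved. -/
noncomputable def quotEquiv (e : G ≃* H) (B : Subgroup G) :
    ↥(Subgroup.normalizer (B : Set G)) ⧸ B.subgroupOf (Subgroup.normalizer (B : Set G)) ≃*
      ↥(Subgroup.normalizer (B.map e.toMonoidHom : Set H)) ⧸
        (B.map e.toMonoidHom).subgroupOf (Subgroup.normalizer (B.map e.toMonoidHom : Set H)) :=
  QuotientGroup.congr _ _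
    ((e.subgroupMap _).trans (MulEquiv.subgroupCongr (Subgroup.map_equiv_normalizer_eq B e)))
    (by
      ext ⟨y, hy⟩
      simp only [Subgroup.mem_map, Subgroup.mem_subgroupOf, Subtype.exists]
      constructor
      · rintro ⟨a, ha, hab, h⟩
        exact ⟨a, hab, congrArg Subtype.val h⟩
      · rintro ⟨a, hab, h⟩
        exact ⟨a, Subgroup.le_normalizer hab, hab, Subtype.ext h⟩)

end Cfsg.Agent.SuzLocal
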