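import Cfsg.Agent.Lib.SuzRec.Apply
import Cfsg.Agent.Lib.RigidGraph.Suz.Presented
import Cfsg.Agent.Lib.SuzG24.Model

/-! A point stabiliser of the group on 1782 points lies in the coded group of degree 416. -/

set_option autoImplicit false
set_option maxRecDepth 100000
set_option Elab.async false

namespace Cfsg.Agent.SuzLocal

open Cfsg.Agent.RigidGraph (slot allB allB_spec permOK permOf)
open Cfsg.Agent.CosetCert (tact wprod)
open Cfsg.Agent.RigidGraph.Suz (suzGroup card_suzGroup)

attribute [local irreducible] RigidGraph.Suz.nodes RigidGraph.Suz.graph RigidGraph.Suz.outer RigidGraph.Suz.relabel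
  Cfsg.Agent.G24J2.g24Gens

/-- the point of the base coset -/
def hPoint : ℕ := slot RigidGraph.Suz.relabel.2 0

/-- the six generators fix it -/
noncomputable def hPointOK : Bool :=
  Nat.blt hPoint 1782 && allB (fun x => Nat.beq (slot RigidGraph.Suz.relabel.2
    (tact Cfsg.Agent.CosetData.SuzA.P [x].reverse (slot RigidGraph.Suz.relabel.1 hPoint))) hPoint) 6

theorem hPoint_ok : hPointOK = true := by decide +kernel

/-- The stabiliser of the first point embeds into the coded group. -/
theorem stab_embed : ∃ ι : ↥(MulAction.stabilizer ↥suzGroup (0 : Fin 1782)) →* ↥SuzRec.M, Function.Injective ι := by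
  classical
  have hk := hPoint_ok
  simp only [hPointOK, Bool.and_eq_true, Nat.blt_eq] at hk
  obtain ⟨hlt, hfix⟩ := hk
  have hrel := RigidGraph.Suz.relabel_ok
  simp only [RigidGraph.Suz.relabelOK, Bool.and_eq_true] at hrel
  obtain ⟨⟨⟨hp, -⟩, -⟩, -⟩ := hrel
  set p : Fin 1782 := ⟨hPoint, hlt⟩
  set T := MulAction.stabilizer ↥suzGroup p
  have hgen : ∀ g ∈ RigidGraph.Suz.par [0, 1, 2, 3, 4, 5], RigidGraph.Suz.toPerm g p = p := by
    intro g hg
    induction hg using Subgroup.closure_induction with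
    | mem y hy =>
      obtain ⟨x, hx, rfl⟩ := hy
      have hx6 : x < 6 := by
        simp only [Set.mem_ofPred_eq, List.mem_cons, List.not_mem_nil, or_false] at hx
        omega
      refine Fin.ext ?_
      have e : RigidGraph.Suz.pgen x = wprod RigidGraph.Suz.pgen [x] := by simp [wprod]
      rw [e, RigidGraph.Suz.toPerm_val hp [x] (fun y hy => by rw [List.mem_singleton.1 hy]; omega)]
      exact Nat.eq_of_beq_eq_true (allB_spec hfix hx6)
    | one => simp
    | mul a b _ _ iha ihb => rw [map_mul, Equiv.Perm.mul_apply, ihb, iha]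
    | inv a _ iha => rw [map_inv, Equiv.Perm.inv_eq_iff_eq, iha]
  let f : ↥(RigidGraph.Suz.par [0, 1, 2, 3, 4, 5]) →* ↥T :=
    MonoidHom.mk' (fun g => ⟨⟨RigidGraph.Suz.toPerm g.1, RigidGraph.Suz.range_eq.1 ▸ ⟨g.1, rfl⟩⟩, hgen g.1 g.2⟩)
      fun a b => Subtype.ext (Subtype.ext (map_mul RigidGraph.Suz.toPerm a.1 b.1))
  have hf : Function.Injective f := fun a b e => by
    have e1 := Subtype.ext_iff.1 (Subtype.ext_iff.1 e)
    exact Subtype.ext (RigidGraph.Suz.range_eq.2 e1)
  obtain ⟨i1⟩ := SuzG24.nonempty_par_G4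
  obtain ⟨i2⟩ := SuzRec.equiv_M (K := Cfsg.Agent.G24.F4) Cfsg.Agent.G24.F4.card
  have hcard : Nat.card ↥(RigidGraph.Suz.par [0, 1, 2, 3, 4, 5]) = 251596800 := by
    rw [Nat.card_congr (i1.trans i2).toEquiv]; exact SuzRec.card_M
  haveI := RigidGraph.Suz.pretransitive_suzGroup
  have hT : Nat.card ↥T * 1782 = 448345497600 := by
    have h := MulAction.index_stabilizer_of_transitive ↥suzGroup p
    rw [Nat.card_fin] at h
    rw [← card_suzGroup, ← Subgroup.card_mul_index T, h]
  have hbij : Function.Bijective f :=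
    (Nat.bijective_iff_injective_and_card f).2 ⟨hf, by omega⟩
  obtain ⟨g, hg⟩ := MulAction.exists_smul_eq ↥suzGroup (0 : Fin 1782) p
  exact ⟨((MulAction.stabilizerEquivStabilizer hg.symm).trans
    ((MulEquiv.ofBijective f hbij).symm.trans (i1.trans i2))).toMonoidHom, MulEquiv.injective _⟩

end Cfsg.Agent.SuzLocal
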