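import Cfsg.Agent.Lib.SuzLocal.FiveChecks
import Cfsg.Agent.Lib.SuzLocal.Stab
import Cfsg.Agent.Lib.SuzLocal.Equiv
import Mathlib.GroupTheory.GroupAction.Quotient
import Mathlib.GroupTheory.Perm.Fin

/-! Subgroups of order five and the normaliser of a Sylow subgroup. -/

set_option autoImplicit false
set_option maxRecDepth 100000
set_option Elab.async false

namespace Cfsg.Agent.SuzLocal

open Cfsg.Agent.SuzOut
open Cfsg.Agent.RigidGraph.Suz (suzGroup card_suzGroup)
open Cfsg.Agent.RigidGraph (allB_spec)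

attribute [local irreducible] lets wordVal RigidGraph.Suz.nodes RigidGraph.permOf RigidGraph.Suz.graph RigidGraph.Suz.outer

/-- the first element of order five -/
noncomputable def uF : ↥suzGroup := wordVal wU

/-- the second -/
noncomputable def vF : ↥suzGroup := wordVal wV

theorem val_pW (a b : ℕ) : wordVal (pW a b) = uF ^ a * vF ^ b := by
  rw [pW, wordVal_append, val_powW, val_powW]; rfl

theorem uv_facts : (∀ i ∈ wU, i < 8) ∧ (∀ i ∈ wV, i < 8) ∧ uF ^ 5 = 1 ∧ vF ^ 5 = 1 ∧ Commute uF vF ∧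
    ∀ a < 5, ∀ b < 5, uF ^ a * vF ^ b = 1 → a = 0 ∧ b = 0 := by
  have h := baseFive_ok
  simp only [baseFiveOK, Bool.and_eq_true, Bool.or_eq_true, Bool.not_eq_true', List.all_eq_true, List.mem_range,
    beq_iff_eq, beq_eq_false_iff_ne, Nat.beq_eq] at h
  obtain ⟨⟨⟨⟨⟨⟨⟨⟨⟨⟨⟨⟨⟨⟨⟨hu, hv⟩, h5u⟩, h5v⟩, hc⟩, hind⟩, -⟩, -⟩, -⟩, -⟩, -⟩, -⟩, -⟩, -⟩, -⟩, -⟩ := h
  have hu' := okWord_mem hu
  have hv' := okWord_mem hv
  refine ⟨hu', hv', ?_, ?_, val_comm hu' hv' hc, fun a ha b hb e => ?_⟩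
  · rw [uF, ← val_powW]; exact (eq_one_iff (powW_lt hu' 5)).2 h5u
  · rw [vF, ← val_powW]; exact (eq_one_iff (powW_lt hv' 5)).2 h5v
  · have hw : ∀ i ∈ pW a b, i < 8 := append_lt (powW_lt hu' a) (powW_lt hv' b)
    rw [← val_pW, eq_one_iff hw] at e
    exact (hind a ha b hb).resolve_left fun h => h e

theorem pW_lt (a b : ℕ) : ∀ i ∈ pW a b, i < 8 := append_lt (powW_lt uv_facts.1 a) (powW_lt uv_facts.2.1 b)

theorem uv_mul (a b c d : ℕ) : uF ^ a * vF ^ b * (uF ^ c * vF ^ d) = uF ^ (a + c) * vF ^ (b + d) := by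
  have h : Commute (vF ^ b) (uF ^ c) := (uv_facts.2.2.2.2.1.symm.pow_left b).pow_right c
  rw [pow_add, pow_add, mul_assoc, ← mul_assoc (vF ^ b), h.eq]
  simp only [mul_assoc]

theorem uv_red (a b : ℕ) : uF ^ a * vF ^ b = uF ^ (a % 5) * vF ^ (b % 5) := by
  rw [pow_eq_pow_mod a uv_facts.2.2.1, pow_eq_pow_mod b uv_facts.2.2.2.1]

/-- the Sylow subgroup -/
noncomputable def P0 : Subgroup ↥suzGroup where
  carrier := {x | ∃ a b : Fin 5, x = uF ^ (a : ℕ) * vF ^ (b : ℕ)}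
  one_mem' := ⟨0, 0, by simp⟩
  mul_mem' := by
    rintro _ _ ⟨a, b, rfl⟩ ⟨c, d, rfl⟩
    exact ⟨⟨(a + c : ℕ) % 5, Nat.mod_lt _ (by norm_num)⟩, ⟨(b + d : ℕ) % 5, Nat.mod_lt _ (by norm_num)⟩,
      (uv_mul _ _ _ _).trans (uv_red _ _)⟩
  inv_mem' := by
    rintro _ ⟨a, b, rfl⟩
    refine ⟨⟨(5 - a : ℕ) % 5, Nat.mod_lt _ (by norm_num)⟩, ⟨(5 - b : ℕ) % 5, Nat.mod_lt _ (by norm_num)⟩, ?_⟩
    rw [inv_eq_iff_mul_eq_one, ← uv_red, uv_mul, Nat.add_sub_cancel' a.2.le, Nat.add_sub_cancel' b.2.le,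
      uv_facts.2.2.1, uv_facts.2.2.2.1, one_mul]

theorem mem_P0 (a b : ℕ) : uF ^ a * vF ^ b ∈ P0 :=
  ⟨⟨a % 5, Nat.mod_lt _ (by norm_num)⟩, ⟨b % 5, Nat.mod_lt _ (by norm_num)⟩, uv_red a b⟩

theorem u_mem : uF ∈ P0 := by simpa using mem_P0 1 0

theorem v_mem : vF ∈ P0 := by simpa using mem_P0 0 1

theorem uv_unique {a b c d : Fin 5} (h : uF ^ (a : ℕ) * vF ^ (b : ℕ) = uF ^ (c : ℕ) * vF ^ (d : ℕ)) :
    a = c ∧ b = d := by
  have h' : uF ^ (((a : ℕ) + (5 - c)) % 5) * vF ^ (((b : ℕ) + (5 - d)) % 5) = 1 := by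
    rw [← uv_red, ← uv_mul, h, uv_mul, Nat.add_sub_cancel' c.2.le, Nat.add_sub_cancel' d.2.le, uv_facts.2.2.1,
      uv_facts.2.2.2.1, one_mul]
  obtain ⟨h1, h2⟩ := uv_facts.2.2.2.2.2 _ (Nat.mod_lt _ (by norm_num)) _ (Nat.mod_lt _ (by norm_num)) h'
  constructor <;> ext <;> omega

theorem card_P0 : Nat.card ↥P0 = 25 := by
  have hb : Function.Bijective fun x : Fin 5 × Fin 5 => (⟨uF ^ (x.1 : ℕ) * vF ^ (x.2 : ℕ), mem_P0 _ _⟩ : ↥P0) := by
    refine ⟨fun x y e => ?_, fun ⟨z, a, b, hz⟩ => ⟨(a, b), Subtype.ext hz.symm⟩⟩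
    obtain ⟨h1, h2⟩ := uv_unique (congrArg Subtype.val e)
    exact Prod.ext h1 h2
  rw [← Nat.card_eq_of_bijective _ hb, Nat.card_eq_fintype_card]
  rfl

theorem rep_facts {k : ℕ} (hk : k < 24) : (∀ i ∈ (nRep k).2.2, i < 8) ∧ labIdx (nRep k).1 = k ∧
    wordVal (nRep k).2.2 * uF * (wordVal (nRep k).2.2)⁻¹ = uF ^ (nRep k).2.1.1 * vF ^ (nRep k).2.1.2.1 ∧
    wordVal (nRep k).2.2 * vF * (wordVal (nRep k).2.2)⁻¹ = uF ^ (nRep k).2.1.2.2.1 * vF ^ (nRep k).2.1.2.2.2 ∧
    (wordVal (nRep k).2.2 ∈ P0 → k = 0) := by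
  have h := reps_ok
  simp only [repsOK, repOK, Bool.and_eq_true, Bool.or_eq_true, Bool.not_eq_true', List.all_eq_true, List.mem_range,
    beq_iff_eq, beq_eq_false_iff_ne, Nat.beq_eq] at h
  obtain ⟨⟨⟨⟨hw, hl⟩, hu⟩, hv⟩, hn⟩ := h k hk
  have hw' := okWord_mem hw
  refine ⟨hw', hl, ?_, ?_, fun ⟨a, b, e⟩ => ?_⟩
  · rw [← val_pW]; exact val_conj hw' uv_facts.1 (pW_lt _ _) hu
  · rw [← val_pW]; exact val_conj hw' uv_facts.2.1 (pW_lt _ _) hv
  · rw [← val_pW] at e
    exact hn.resolve_right fun h => h a a.2 b b.2 (key_of_eq hw' (pW_lt _ _) e)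

theorem rep_normalizer {k : ℕ} (hk : k < 24) :
    wordVal (nRep k).2.2 ∈ Subgroup.normalizer (P0 : Set ↥suzGroup) := by
  obtain ⟨-, -, hu, hv, -⟩ := rep_facts hk
  set g := wordVal (nRep k).2.2
  have hmap : P0.map (MulAut.conj g).toMonoidHom = P0 := by
    refine Subgroup.eq_of_le_of_card_ge ?_
      (Nat.card_congr (P0.equivMapOfInjective _ (MulEquiv.injective _)).toEquiv).le
    rintro _ ⟨x, ⟨a, b, rfl⟩, rfl⟩
    rw [map_mul, map_pow, map_pow]
    show (g * uF * g⁻¹) ^ (a : ℕ) * (g * vF * g⁻¹) ^ (b : ℕ) ∈ P0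
    rw [hu, hv]
    exact mul_mem (pow_mem (mem_P0 _ _) _) (pow_mem (mem_P0 _ _) _)
  exact Subgroup.mem_normalizer_iff.2 fun y => by
    conv_rhs => rw [← hmap]
    exact (Subgroup.mem_map_iff_mem (f := (MulAut.conj g).toMonoidHom) (MulEquiv.injective _)).symm

/-- the label of a pair -/
def labOf (i : Multiplicative (ZMod 4)) (p : Equiv.Perm (Fin 3)) : ℕ × List ℕ :=
  (i.toAdd.val, (List.finRange 3).map fun j => (p j : ℕ))

theorem labels : ∀ (i : Multiplicative (ZMod 4)) (p : Equiv.Perm (Fin 3)),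
    labIdx (labOf i p) < 24 ∧ (nRep (labIdx (labOf i p))).1 = labOf i p ∧ (labIdx (labOf i p) = 0 → i = 1 ∧ p = 1) := by
  decide +kernel

theorem labMul_spec : ∀ (i j : Multiplicative (ZMod 4)) (p q : Equiv.Perm (Fin 3)),
    labMul (labOf i p) (labOf j q) = labOf (i * j) (p * q) := by
  decide +kernel

/-- the representative as an element of the normaliser -/
noncomputable def repN (i : Multiplicative (ZMod 4)) (p : Equiv.Perm (Fin 3)) :
    ↥(Subgroup.normalizer (P0 : Set ↥suzGroup)) :=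
  ⟨wordVal (nRep (labIdx (labOf i p))).2.2, rep_normalizer (labels i p).1⟩

/-- the map to the quotient -/
noncomputable def psi : Multiplicative (ZMod 4) × Equiv.Perm (Fin 3) →*
    ↥(Subgroup.normalizer (P0 : Set ↥suzGroup)) ⧸ P0.subgroupOf (Subgroup.normalizer (P0 : Set ↥suzGroup)) :=
  MonoidHom.mk' (fun x => QuotientGroup.mk (repN x.1 x.2)) fun x y => by
    rw [← QuotientGroup.mk_mul, QuotientGroup.eq, Subgroup.mem_subgroupOf]
    obtain ⟨hk, hkl, -⟩ := labels x.1 x.2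
    obtain ⟨hl, hll, -⟩ := labels y.1 y.2
    obtain ⟨hm, -, -⟩ := labels (x * y).1 (x * y).2
    have h := tab_ok hk
    simp only [tabOK, List.all_eq_true, List.mem_range, beq_iff_eq] at h
    have h1 := h _ hl
    rw [hkl, hll, labMul_spec] at h1
    have h2 := eq_of_key (append_lt (rep_facts hk).1 (rep_facts hl).1) (append_lt (rep_facts hm).1 (pW_lt _ _)) h1
    rw [wordVal_append, wordVal_append, val_pW] at h2
    simp only [repN, Subgroup.coe_mul, Subgroup.coe_inv]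
    rw [h2]
    show (wordVal (nRep (labIdx (labOf (x.1 * y.1) (x.2 * y.2)))).2.2)⁻¹ *
      (wordVal (nRep (labIdx (labOf (x.1 * y.1) (x.2 * y.2)))).2.2 * _) ∈ P0
    rw [inv_mul_cancel_left]
    exact mem_P0 _ _

theorem psi_inj : Function.Injective psi := by
  rw [← MonoidHom.ker_eq_bot_iff, Subgroup.eq_bot_iff_forall]
  rintro ⟨i, p⟩ h
  rw [MonoidHom.mem_ker] at h
  obtain ⟨hk, -, h0⟩ := labels i p
  have hm : wordVal (nRep (labIdx (labOf i p))).2.2 ∈ P0 := Subgroup.mem_subgroupOf.1 ((QuotientGroup.eq_one_iff _).1 h)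
  obtain ⟨rfl, rfl⟩ := h0 ((rep_facts hk).2.2.2.2 hm)
  rfl

theorem fix_facts : ∃ q r : Fin 1782, (0 : Fin 1782) ≠ q ∧ q ≠ r ∧ (0 : Fin 1782) ≠ r ∧
    uF • (0 : Fin 1782) = 0 ∧ uF • q = q ∧ uF • r = r ∧ vF • (0 : Fin 1782) = 0 ∧ vF • q = q ∧
    ∀ x : Fin 1782, vF • x = x → x = 0 ∨ x = q := by
  have h := baseFive_ok
  simp only [baseFiveOK, Bool.and_eq_true, Bool.not_eq_true', Nat.beq_eq, Nat.blt_eq] at h
  obtain ⟨⟨⟨⟨⟨⟨⟨⟨⟨⟨-, h0u⟩, h0v⟩, hpu⟩, hpv⟩, hqu⟩, hp⟩, hq⟩, hp0⟩, hq0⟩, hqp⟩ := h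
  obtain ⟨hu, hv, -⟩ := uv_facts
  have act : ∀ {w : List ℕ}, (∀ i ∈ w, i < 8) → ∀ x : Fin 1782, evW w x = x → wordVal w • x = x :=
    fun {w} hw x e => Fin.ext ((act_word w hw x).trans e)
  have ne : ∀ {a b : ℕ}, Nat.beq a b = false → a ≠ b := fun {a b} h e => by
    subst e; rw [Nat.beq_refl] at h; exact Bool.noConfusion h
  refine ⟨⟨fixP, hp⟩, ⟨fixQ, hq⟩, fun e => ne hp0 (congrArg Fin.val e).symm, fun e => ne hqp (congrArg Fin.val e).symm,
    fun e => ne hq0 (congrArg Fin.val e).symm, act hu 0 h0u, act hu _ hpu, act hu _ hqu, act hv 0 h0v, act hv _ hpv,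
    fun x hx => ?_⟩
  have hx' : evW wV x = x := by
    rw [← act_word wV hv x]
    exact congrArg Fin.val hx
  have h' := allB_spec fixV_ok x.2
  simp only [Bool.or_eq_true, Bool.not_eq_true', Nat.beq_eq] at h'
  rcases h' with (h' | h') | h'
  · exact absurd hx' (ne h')
  · exact Or.inl (Fin.ext h')
  · exact Or.inr (Fin.ext h')

theorem card_normalizer_le : Nat.card ↥(Subgroup.normalizer (P0 : Set ↥suzGroup)) ≤ 1200 := by
  classical
  set N := Subgroup.normalizer (P0 : Set ↥suzGroup)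
  set S := MulAction.stabilizer ↥suzGroup (0 : Fin 1782)
  obtain ⟨q, r, h0q, -, -, hu0, -, -, hv0, -, hfix⟩ := fix_facts
  have hP0 : P0 ≤ S := by
    rintro _ ⟨a, b, rfl⟩
    exact mul_mem (pow_mem (show uF ∈ S from hu0) _) (pow_mem (show vF ∈ S from hv0) _)
  have horb : (MulAction.orbit ↥N (0 : Fin 1782)).ncard ≤ 2 := by
    refine le_trans (Set.ncard_le_ncard (t := ({0, q} : Set (Fin 1782))) ?_) (Set.ncard_pair h0q).le
    rintro _ ⟨⟨n, hn⟩, rfl⟩
    have hv' : n⁻¹ * vF * n ∈ P0 := (Subgroup.mem_normalizer_iff''.1 hn vF).1 v_mem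
    refine hfix (n • 0) ?_
    have h1 : (n⁻¹ * vF * n) • (0 : Fin 1782) = 0 := hP0 hv'
    rw [mul_smul, mul_smul, inv_smul_eq_iff] at h1
    exact h1
  have hK : Nat.card ↥(N ⊓ S) ≤ 600 := by
    obtain ⟨ι, hι⟩ := stab_embed
    haveI : Fact (Nat.Prime 5) := ⟨by norm_num⟩
    set A : Subgroup ↥SuzRec.M := (P0.subgroupOf S).map ι
    set B : Subgroup ↥SuzRec.M := SuzRec.P5.subgroupOf SuzRec.M
    have hA : Nat.card ↥A = 25 := by
      rw [← Nat.card_congr ((P0.subgroupOf S).equivMapOfInjective ι hι).toEquiv,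
        Nat.card_congr (Subgroup.subgroupOfEquivOfLe hP0).toEquiv, card_P0]
    have hf : (Nat.card ↥SuzRec.M).factorization 5 = 2 := by
      rw [SuzRec.card_M, show 251596800 = 5 ^ 2 * 10063872 by norm_num,
        Nat.factorization_mul (by norm_num) (by norm_num), Finsupp.add_apply,
        (show Nat.Prime 5 by norm_num).factorization_pow, Finsupp.single_eq_same,
        Nat.factorization_eq_zero_of_not_dvd (by norm_num)]
    have hB : Nat.card ↥B = 25 := by
      rw [Nat.card_congr (Subgroup.subgroupOfEquivOfLe SuzRec.P5_le).toEquiv]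
      exact SuzRec.card_P5
    obtain ⟨g, hg⟩ := MulAction.exists_smul_eq ↥SuzRec.M
      (Sylow.ofCard (p := 5) A (by rw [hf, hA]; norm_num)) (Sylow.ofCard (p := 5) B (by rw [hf, hB]; norm_num))
    have hAB : A.map (MulAut.conj g).toMonoidHom = B := congrArg Sylow.toSubgroup hg
    set φ : ↥S →* Equiv.Perm (Fin 416) := SuzRec.M.subtype.comp ((MulAut.conj g).toMonoidHom.comp ι)
    have hφ : Function.Injective φ :=
      SuzRec.M.subtype_injective.comp ((MulAut.conj g).injective.comp hι)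
    have hPφ : (P0.subgroupOf S).map φ = SuzRec.P5 := by
      have e : (P0.subgroupOf S).map φ = (A.map (MulAut.conj g).toMonoidHom).map SuzRec.M.subtype := by
        simp only [φ, A, Subgroup.map_map]
      rw [e, hAB, Subgroup.map_subgroupOf_eq_of_le SuzRec.P5_le]
    have hb := SuzRec.norm_bound (K := ((N ⊓ S).subgroupOf S).map φ)
      (by rintro _ ⟨k, -, rfl⟩; exact SetLike.coe_mem _)
      (by
        rintro _ ⟨k, hk, rfl⟩ x hx
        rw [← hPφ] at hx ⊢
        obtain ⟨y, hy, rfl⟩ := hx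
        refine ⟨k * y * k⁻¹, ?_, by rw [map_mul, map_mul, map_inv]⟩
        exact (Subgroup.mem_normalizer_iff.1 hk.1 (y : ↥suzGroup)).1 hy)
    rwa [← Nat.card_congr (((N ⊓ S).subgroupOf S).equivMapOfInjective φ hφ).toEquiv,
      Nat.card_congr (Subgroup.subgroupOfEquivOfLe inf_le_right).toEquiv] at hb
  have hos := Nat.card_congr (MulAction.orbitProdStabilizerEquivGroup ↥N (0 : Fin 1782))
  rw [Nat.card_prod, Nat.card_coe_set_eq] at hos
  rw [← hos]
  refine le_trans (Nat.mul_le_mul horb ?_) (by norm_num : 2 * 600 ≤ 1200)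
  refine le_trans (le_of_eq ?_) hK
  exact Nat.card_congr
    { toFun := fun x => ⟨(x.1 : ↥suzGroup), x.1.2, x.2⟩
      invFun := fun x => ⟨⟨x.1, x.2.1⟩, x.2.2⟩
      left_inv := fun _ => rfl
      right_inv := fun _ => rfl }

theorem sylow_card : (Nat.card ↥suzGroup).factorization 5 = 2 :=
  factorization_card (p := 5) (k := 2) (m := 17933819904) (by norm_num) (by norm_num) (by norm_num)

theorem card_normalizer_P0 : Nat.card ↥(Subgroup.normalizer (P0 : Set ↥suzGroup)) = 600 := by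
  haveI : Fact (Nat.Prime 5) := ⟨by norm_num⟩
  set N := Subgroup.normalizer (P0 : Set ↥suzGroup)
  have h24 : Nat.card (Multiplicative (ZMod 4) × Equiv.Perm (Fin 3)) = 24 := by
    rw [Nat.card_eq_fintype_card]; rfl
  have he := Subgroup.card_eq_card_quotient_mul_card_subgroup (P0.subgroupOf N)
  rw [Nat.card_congr (Subgroup.subgroupOfEquivOfLe Subgroup.le_normalizer).toEquiv, card_P0] at he
  have hd : 24 ∣ Nat.card (↥N ⧸ P0.subgroupOf N) := h24 ▸ Subgroup.card_dvd_of_injective psi psi_inj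
  have hle : Nat.card ↥N ≤ 1200 := card_normalizer_le
  have hpos : 0 < Nat.card (↥N ⧸ P0.subgroupOf N) := Nat.card_pos
  let P : Sylow 5 ↥suzGroup := Sylow.ofCard P0 (by rw [sylow_card, card_P0]; norm_num)
  have hmod : Nat.card (Sylow 5 ↥suzGroup) % 5 = 1 := card_sylow_modEq_one 5 ↥suzGroup
  rw [Sylow.card_eq_index_normalizer P] at hmod
  change N.index % 5 = 1 at hmod
  have hi := Subgroup.card_mul_index N
  rw [card_suzGroup] at hi
  obtain ⟨k, hk⟩ := hd
  have hk2 : k = 1 ∨ k = 2 := by omega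
  rw [hk] at he
  rw [he] at hi
  rcases hk2 with rfl | rfl <;> omega

/-- The quotient. -/
noncomputable def quotP0 : ↥(Subgroup.normalizer (P0 : Set ↥suzGroup)) ⧸
    P0.subgroupOf (Subgroup.normalizer (P0 : Set ↥suzGroup)) ≃* Multiplicative (ZMod 4) × Equiv.Perm (Fin 3) :=
  (MulEquiv.ofBijective psi ((Nat.bijective_iff_injective_and_card _).2 ⟨psi_inj, by
    have he := Subgroup.card_eq_card_quotient_mul_card_subgroup
      (P0.subgroupOf (Subgroup.normalizer (P0 : Set ↥suzGroup)))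
    rw [card_normalizer_P0, Nat.card_congr (Subgroup.subgroupOfEquivOfLe Subgroup.le_normalizer).toEquiv, card_P0] at he
    rw [show Nat.card (Multiplicative (ZMod 4) × Equiv.Perm (Fin 3)) = 24 by rw [Nat.card_eq_fintype_card]; rfl]
    omega⟩)).symm

theorem zpowers_of_pow_mem {x : ↥suzGroup} (hx : x ^ 5 = 1) (hx1 : x ≠ 1) {C : Subgroup ↥suzGroup}
    (hC : Nat.card ↥C = 5) {c : ↥suzGroup} (hc : c ∈ C) (hc1 : c ≠ 1) (h : c ∈ Subgroup.zpowers x) :
    C = Subgroup.zpowers x := by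
  haveI : Fact (Nat.Prime 5) := ⟨by norm_num⟩
  have h1 : Subgroup.zpowers c = C := Subgroup.eq_of_le_of_card_ge (Subgroup.zpowers_le.2 hc) (by
    rw [Nat.card_zpowers, hC, orderOf_eq_prime (p := 5) (by
      have := pow_card_eq_one' (x := (⟨c, hc⟩ : ↥C))
      rw [hC] at this
      exact congrArg Subtype.val this) hc1])
  rw [← h1]
  refine Subgroup.eq_of_le_of_card_ge (Subgroup.zpowers_le.2 h) ?_
  rw [h1, hC, Nat.card_zpowers, orderOf_eq_prime hx hx1]

theorem two_classes : ∃ A B : Subgroup ↥suzGroup, Nat.card A = 5 ∧ Nat.card B = 5 ∧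
    (∀ g : ↥suzGroup, A.map (MulAut.conj g).toMonoidHom ≠ B) ∧
    ∀ C : Subgroup ↥suzGroup, Nat.card C = 5 →
      ∃ g : ↥suzGroup, C.map (MulAut.conj g).toMonoidHom = A ∨ C.map (MulAut.conj g).toMonoidHom = B := by
  haveI : Fact (Nat.Prime 5) := ⟨by norm_num⟩
  obtain ⟨-, -, hu5, hv5, -, hind⟩ := uv_facts
  have hu1 : uF ≠ 1 := fun e => absurd (hind 1 (by norm_num) 0 (by norm_num) (by simp [e])).1 one_ne_zero
  have hv1 : vF ≠ 1 := fun e => absurd (hind 0 (by norm_num) 1 (by norm_num) (by simp [e])).2 one_ne_zero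
  refine ⟨Subgroup.zpowers uF, Subgroup.zpowers vF, by rw [Nat.card_zpowers, orderOf_eq_prime hu5 hu1],
    by rw [Nat.card_zpowers, orderOf_eq_prime hv5 hv1], fun g e => ?_, fun C hC => ?_⟩
  · obtain ⟨q, r, h0q, hqr, h0r, hu0, huq, hur, -, -, hfix⟩ := fix_facts
    have hv : vF ∈ (Subgroup.zpowers uF).map (MulAut.conj g).toMonoidHom := e ▸ Subgroup.mem_zpowers vF
    obtain ⟨y, hy, hyv⟩ := hv
    have hy' : Subgroup.zpowers uF ≤ MulAction.stabilizer ↥suzGroup (0 : Fin 1782) ⊓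
        (MulAction.stabilizer ↥suzGroup q ⊓ MulAction.stabilizer ↥suzGroup r) :=
      Subgroup.zpowers_le.2 ⟨hu0, huq, hur⟩
    obtain ⟨h0, hq, hr⟩ := hy' hy
    have key : ∀ x : Fin 1782, y • x = x → g • x = 0 ∨ g • x = q := fun x hx => hfix _ (by
      rw [← hyv]
      show (g * y * g⁻¹) • (g • x) = g • x
      rw [mul_smul, mul_smul, inv_smul_smul, hx])
    have k0 := key 0 h0
    have kq := key q hq
    have kr := key r hr
    have inj := MulAction.injective g (β := Fin 1782)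
    rcases k0 with k0 | k0 <;> rcases kq with kq | kq <;> rcases kr with kr | kr
    all_goals
      first
        | exact h0q (inj (k0.trans kq.symm))
        | exact h0r (inj (k0.trans kr.symm))
        | exact hqr (inj (kq.trans kr.symm))
  · obtain ⟨S, hS⟩ := (IsPGroup.of_card (p := 5) (n := 1) (G := ↥C) (by rw [hC, pow_one])).exists_le_sylow
    obtain ⟨g, hg⟩ := MulAction.exists_smul_eq ↥suzGroup S
      (Sylow.ofCard (p := 5) P0 (by rw [sylow_card, card_P0]; norm_num))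
    have hle : C.map (MulAut.conj g).toMonoidHom ≤ P0 :=
      (Subgroup.map_mono hS).trans (congrArg Sylow.toSubgroup hg).le
    set C' := C.map (MulAut.conj g).toMonoidHom
    have hC' : Nat.card ↥C' = 5 := by
      rw [← hC]; exact (Nat.card_congr (C.equivMapOfInjective _ (MulEquiv.injective _)).toEquiv).symm
    have hne : C' ≠ ⊥ := fun e => by rw [e, Subgroup.card_bot] at hC'; omega
    obtain ⟨c, hc, hc1⟩ := (Subgroup.ne_bot_iff_exists_ne_one).1 hne |> fun ⟨⟨c, hc⟩, h1⟩ =>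
      (⟨c, hc, fun e => h1 (Subtype.ext e)⟩ : ∃ c ∈ C', c ≠ 1)
    obtain ⟨a, b, hab⟩ := hle hc
    have hl := lines_ok
    simp only [linesOK, Bool.and_eq_true, Bool.or_eq_true, List.all_eq_true, List.mem_range, Nat.blt_eq,
      Nat.beq_eq] at hl
    obtain ⟨hk, hz⟩ := hl a a.2 b b.2
    set k := lineWit.getD (5 * (a : ℕ) + b) 0
    obtain ⟨-, -, hu, hv, -⟩ := rep_facts hk
    set w := wordVal (nRep k).2.2
    refine ⟨w * g, ?_⟩
    have hmap : C.map (MulAut.conj (w * g)).toMonoidHom = C'.map (MulAut.conj w).toMonoidHom := by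
      rw [map_mul, Subgroup.map_map]
      rfl
    rw [hmap]
    have hcard : Nat.card ↥(C'.map (MulAut.conj w).toMonoidHom) = 5 := by
      rw [← hC']; exact (Nat.card_congr (C'.equivMapOfInjective _ (MulEquiv.injective _)).toEquiv).symm
    have hd : (MulAut.conj w) c ∈ C'.map (MulAut.conj w).toMonoidHom := ⟨c, hc, rfl⟩
    have hd1 : (MulAut.conj w) c ≠ 1 := fun e => hc1 ((MulEquiv.injective _) (e.trans (map_one _).symm))
    set e := (nRep k).2.1
    have hval : (MulAut.conj w) c =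
        uF ^ ((a * e.1 + b * e.2.2.1) % 5 : ℕ) * vF ^ ((a * e.2.1 + b * e.2.2.2) % 5 : ℕ) := by
      rw [hab, map_mul, map_pow, map_pow, MulAut.conj_apply, MulAut.conj_apply, hu, hv, ← uv_red]
      have h1 : Commute (uF ^ e.1) (vF ^ e.2.1) := (uv_facts.2.2.2.2.1.pow_left _).pow_right _
      have h2 : Commute (uF ^ e.2.2.1) (vF ^ e.2.2.2) := (uv_facts.2.2.2.2.1.pow_left _).pow_right _
      rw [h1.mul_pow, h2.mul_pow, ← pow_mul, ← pow_mul, ← pow_mul, ← pow_mul, uv_mul,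
        Nat.mul_comm e.1, Nat.mul_comm e.2.1, Nat.mul_comm e.2.2.1, Nat.mul_comm e.2.2.2]
    rcases hz with hz | hz
    · exact Or.inr (zpowers_of_pow_mem hv5 hv1 hcard hd hd1
        (by rw [hval, hz, pow_zero, one_mul]; exact Subgroup.npow_mem_zpowers _ _))
    · exact Or.inl (zpowers_of_pow_mem hu5 hu1 hcard hd hd1
        (by rw [hval, hz, pow_zero, mul_one]; exact Subgroup.npow_mem_zpowers _ _))

/-- The statement in any isomorphic group. -/
theorem five_transport {G : Type*} [Group G] [Finite G] (e : G ≃* ↥suzGroup) (P : Sylow 5 G) :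
    (∃ A B : Subgroup G, Nat.card A = 5 ∧ Nat.card B = 5 ∧ (∀ g : G, A.map (MulAut.conj g).toMonoidHom ≠ B) ∧
      ∀ C : Subgroup G, Nat.card C = 5 →
        ∃ g : G, C.map (MulAut.conj g).toMonoidHom = A ∨ C.map (MulAut.conj g).toMonoidHom = B) ∧
    Nat.card (P : Subgroup G) = 25 ∧ Nat.card ↥(Subgroup.normalizer ((P : Subgroup G) : Set G)) = 600 ∧
    Nonempty (↥(Subgroup.normalizer ((P : Subgroup G) : Set G)) ⧸
      (P : Subgroup G).subgroupOf (Subgroup.normalizer ((P : Subgroup G) : Set G)) ≃*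
        Multiplicative (ZMod 4) × Equiv.Perm (Fin 3)) := by
  haveI : Fact (Nat.Prime 5) := ⟨by norm_num⟩
  have hP : Nat.card (P : Subgroup G) = 25 := by
    rw [Sylow.card_eq_multiplicity, Nat.card_congr e.toEquiv, sylow_card]; norm_num
  refine ⟨?_, hP, ?_⟩
  · obtain ⟨A, B, hA, hB, hne, hall⟩ := two_classes
    have hcm : ∀ (C : Subgroup G) (g : G), (C.map (MulAut.conj g).toMonoidHom).map e.toMonoidHom =
        (C.map e.toMonoidHom).map (MulAut.conj (e g)).toMonoidHom := fun C g => by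
      rw [Subgroup.map_map, Subgroup.map_map]
      congr 1
      ext x
      simp
    have hback : ∀ D : Subgroup ↥suzGroup, (D.map e.symm.toMonoidHom).map e.toMonoidHom = D := fun D => by
      rw [Subgroup.map_map]
      convert Subgroup.map_id D
      ext x
      simp
    have hcs : ∀ D : Subgroup ↥suzGroup, Nat.card ↥(D.map e.symm.toMonoidHom) = Nat.card ↥D := fun D =>
      (Nat.card_congr (D.equivMapOfInjective _ e.symm.injective).toEquiv).symm
    refine ⟨A.map e.symm.toMonoidHom, B.map e.symm.toMonoidHom, (hcs A).trans hA, (hcs B).trans hB,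
      fun g h => hne (e g) ?_, fun C hC => ?_⟩
    · have h' := congrArg (Subgroup.map e.toMonoidHom) h
      rwa [hcm, hback, hback] at h'
    · obtain ⟨g, hg⟩ := hall (C.map e.toMonoidHom)
        ((Nat.card_congr (C.equivMapOfInjective _ e.injective).toEquiv).symm.trans hC)
      refine ⟨e.symm g, hg.imp (fun h => ?_) fun h => ?_⟩
      all_goals
        refine Subgroup.map_injective (f := e.toMonoidHom) e.injective ?_
        rw [hcm, hback, e.apply_symm_apply]
        exact h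
  · have hc : Nat.card ↥((P : Subgroup G).map e.toMonoidHom) = 25 :=
      (Nat.card_congr (e.subgroupMap _).toEquiv).symm.trans hP
    obtain ⟨g, hg⟩ := MulAction.exists_smul_eq ↥suzGroup
      (Sylow.ofCard (p := 5) ((P : Subgroup G).map e.toMonoidHom) (by rw [sylow_card, hc]; norm_num))
      (Sylow.ofCard (p := 5) P0 (by rw [sylow_card, card_P0]; norm_num))
    have hmap : (P : Subgroup G).map (e.trans (MulAut.conj g)).toMonoidHom = P0 := by
      rw [show (e.trans (MulAut.conj g)).toMonoidHom = (MulAut.conj g).toMonoidHom.comp e.toMonoidHom from rfl,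
        ← Subgroup.map_map]
      exact congrArg Sylow.toSubgroup hg
    refine ⟨?_, ?_⟩
    · rw [← card_normalizer_map (e.trans (MulAut.conj g)), hmap]
      exact card_normalizer_P0
    · refine ⟨(quotEquiv (e.trans (MulAut.conj g)) (P : Subgroup G)).trans ?_⟩
      rw [hmap]
      exact quotP0

end Cfsg.Agent.SuzLocal
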