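import Cfsg.Agent.Lib.SuzLocal.Basic

/-! Word checks at the prime five. -/

set_option autoImplicit false
set_option maxRecDepth 100000
set_option Elab.async false

namespace Cfsg.Agent.SuzLocal

open Cfsg.Agent.SuzOut
open Cfsg.Agent.RigidGraph (allB)

attribute [local irreducible] lets wordVal RigidGraph.Suz.nodes RigidGraph.permOf RigidGraph.Suz.graph RigidGraph.Suz.outer

/-- a product of powers of the two words -/
def pW (a b : ℕ) : List ℕ := powW wU a ++ powW wV b

/-- a representative -/
def nRep (k : ℕ) : (ℕ × List ℕ) × (ℕ × ℕ × ℕ × ℕ) × List ℕ := nReps.getD k ((0, []), (0, 0, 0, 0), [])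

/-- the number of a permutation of three letters -/
def permIdx (l : List ℕ) : ℕ :=
  [[0, 1, 2], [0, 2, 1], [1, 0, 2], [1, 2, 0], [2, 0, 1], [2, 1, 0]].findIdx fun r => r == l

/-- the number of a label -/
def labIdx (r : ℕ × List ℕ) : ℕ := 6 * r.1 + permIdx r.2

/-- composition of labels -/
def labMul (r s : ℕ × List ℕ) : ℕ × List ℕ := ((r.1 + s.1) % 4, s.2.map fun j => r.2.getD j 0)

/-- generators, independence, fixed points -/
noncomputable def baseFiveOK : Bool :=
  okWord wU && okWord wV && keyOf (powW wU 5) == base && keyOf (powW wV 5) == base &&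
  keyOf (wU ++ wV) == keyOf (wV ++ wU) &&
  (List.range 5).all (fun a => (List.range 5).all fun b =>
    !(keyOf (pW a b) == base) || (Nat.beq a 0 && Nat.beq b 0)) &&
  Nat.beq (evW wU 0) 0 && Nat.beq (evW wV 0) 0 && Nat.beq (evW wU fixP) fixP && Nat.beq (evW wV fixP) fixP &&
  Nat.beq (evW wU fixQ) fixQ && Nat.blt fixP 1782 && Nat.blt fixQ 1782 && !Nat.beq fixP 0 && !Nat.beq fixQ 0 &&
  !Nat.beq fixQ fixP

/-- the second has two fixed points -/
noncomputable def fixVOK : Bool :=
  allB (fun q => !Nat.beq (evW wV q) q || Nat.beq q 0 || Nat.beq q fixP) 1782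

/-- one representative -/
def repOK (k : ℕ) : Bool :=
  let r := nRep k
  okWord r.2.2 && Nat.beq (labIdx r.1) k &&
  keyOf (r.2.2 ++ wU) == keyOf (pW r.2.1.1 r.2.1.2.1 ++ r.2.2) &&
  keyOf (r.2.2 ++ wV) == keyOf (pW r.2.1.2.2.1 r.2.1.2.2.2 ++ r.2.2) &&
  (Nat.beq k 0 || (List.range 5).all fun a => (List.range 5).all fun b => !(keyOf r.2.2 == keyOf (pW a b)))

/-- all representatives -/
def repsOK : Bool := (List.range 24).all repOK

/-- the factor set on one row -/
def tabOK (k : ℕ) : Bool := (List.range 24).all fun l =>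
  keyOf ((nRep k).2.2 ++ (nRep l).2.2) == keyOf ((nRep (labIdx (labMul (nRep k).1 (nRep l).1))).2.2 ++
    pW (nTab.getD (24 * k + l) (0, 0)).1 (nTab.getD (24 * k + l) (0, 0)).2)

/-- the lines -/
def linesOK : Bool := (List.range 5).all fun a => (List.range 5).all fun b =>
  let k := lineWit.getD (5 * a + b) 0
  let e := (nRep k).2.1
  Nat.blt k 24 && (Nat.beq ((a * e.1 + b * e.2.2.1) % 5) 0 || Nat.beq ((a * e.2.1 + b * e.2.2.2) % 5) 0)

theorem baseFive_ok : baseFiveOK = true := by decide +kernel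

theorem fixV_ok : fixVOK = true := by decide +kernel

theorem reps_ok : repsOK = true := by decide +kernel

theorem tab_ok_0 : (tabOK 0 && tabOK 1 && tabOK 2 && tabOK 3 && tabOK 4 && tabOK 5) = true := by decide +kernel

theorem tab_ok_1 : (tabOK 6 && tabOK 7 && tabOK 8 && tabOK 9 && tabOK 10 && tabOK 11) = true := by decide +kernel

theorem tab_ok_2 : (tabOK 12 && tabOK 13 && tabOK 14 && tabOK 15 && tabOK 16 && tabOK 17) = true := by decide +kernel

theorem tab_ok_3 : (tabOK 18 && tabOK 19 && tabOK 20 && tabOK 21 && tabOK 22 && tabOK 23) = true := by decide +kernel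

theorem tab_ok {k : ℕ} (hk : k < 24) : tabOK k = true := by
  have h0 := tab_ok_0
  have h1 := tab_ok_1
  have h2 := tab_ok_2
  have h3 := tab_ok_3
  simp only [Bool.and_eq_true] at h0 h1 h2 h3
  interval_cases k <;> simp only [h0, h1, h2, h3]

theorem lines_ok : linesOK = true := by decide +kernel

end Cfsg.Agent.SuzLocal
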