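import Cfsg.Agent.Lib.SuzLocal.Basic
import Cfsg.Agent.Lib.SuzLocal.Equiv
import Mathlib.GroupTheory.SpecificGroups.Alternating
import Mathlib.GroupTheory.SpecificGroups.Cyclic
import Mathlib.GroupTheory.NoncommCoprod

/-! The normaliser of a subgroup of order seven. -/

set_option autoImplicit false
set_option maxRecDepth 100000
set_option Elab.async false

namespace Cfsg.Agent.SuzLocal

open Cfsg.Agent.SuzOut
open Cfsg.Agent.RigidGraph.Suz (suzGroup card_suzGroup)

attribute [local irreducible] lets wordVal RigidGraph.Suz.nodes RigidGraph.permOf RigidGraph.Suz.graph RigidGraph.Suz.outer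

/-- the word with given images -/
def altWord (l : List ℕ) : List ℕ := ((altW.find? fun r => r.1 == l).map fun r => r.2).getD []

/-- composition of images -/
def imgMul (a b : List ℕ) : List ℕ := b.map fun j => a.getD j 0

/-- images of a permutation -/
def img (p : Equiv.Perm (Fin 4)) : List ℕ := (List.finRange 4).map fun i => (p i : ℕ)

/-- all facts checked on words -/
def sevenOK : Bool :=
  okWord wX && okWord wH && keyOf (powW wX 7) == base && !(keyOf wX == base) &&
  keyOf (wH ++ wX) == keyOf (powW wX 3 ++ wH) &&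
  altW.all (fun a => okWord a.2 && altWord a.1 == a.2 && keyOf (wX ++ a.2) == keyOf (a.2 ++ wX) &&
    altW.all (fun b => keyOf (a.2 ++ b.2) == keyOf (altWord (imgMul a.1 b.1))) &&
    (List.range 7).all (fun j => !(keyOf a.2 == keyOf (powW wX j)) || a.1 == [0, 1, 2, 3])) &&
  Nat.beq ((xRows.filter fun R => Nat.beq R.2.2.1 0).length) 84

theorem seven_ok : sevenOK = true := by decide +kernel

theorem xHead_ok : (okWord wX && Nat.beq (evW wX 0) 0 && Nat.blt xB1 1782 &&
    RigidGraph.bit (RigidGraph.Suz.graph.B.get 0) xB1) = true := by decide +kernel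

theorem xRows_ok : xRows.all (rowOK wX xB1) = true := by decide +kernel

theorem xRounds_ok : RigidGraph.roundsOK 1782 RigidGraph.Suz.graph ((List.range xLen).map (pAt wX 0 xB1)) xRounds =
    true := by decide +kernel

theorem xCover_ok : (base.all fun b => ((List.range xLen).map (pAt wX 0 xB1) ++ xRounds.flatten).contains b) =
    true := by decide +kernel

theorem xCands_ok : RigidGraph.allB (fun q => !Nat.beq (evW wX q) q ||
    RigidGraph.allB (candOK wX xB1 xTests xRows q) RigidGraph.Suz.graph.k) 1782 = true := by decide +kernel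

theorem xCent_ok : centOK wX xB1 xLen xTests xRows xRounds = true := by
  simp only [centOK, Bool.and_eq_true]
  have h := xHead_ok
  simp only [Bool.and_eq_true] at h
  exact ⟨⟨⟨⟨h, xRows_ok⟩, xRounds_ok⟩, xCover_ok⟩, xCands_ok⟩

theorem img_mul : ∀ p q : Equiv.Perm (Fin 4), img (p * q) = imgMul (img p) (img q) := by
  intro p q
  simp only [img, imgMul, List.map_map]
  refine List.map_congr_left fun i _ => ?_
  simp

theorem img_inj {p q : Equiv.Perm (Fin 4)} (h : img p = img q) : p = q := by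
  refine Equiv.ext fun i => Fin.ext ?_
  exact List.map_inj_left.1 h i (List.mem_finRange i)

theorem img_mem : ∀ p : Equiv.Perm (Fin 4), Equiv.Perm.sign p = 1 →
    (altW.map fun r => r.1).contains (img p) = true := by
  decide +kernel

/-- an element of order seven -/
noncomputable def x0 : ↥suzGroup := wordVal wX

/-- the subgroup it generates -/
noncomputable def B0 : Subgroup ↥suzGroup := Subgroup.zpowers x0

theorem x_facts : (∀ i ∈ wX, i < 8) ∧ (∀ i ∈ wH, i < 8) ∧ x0 ^ 7 = 1 ∧ x0 ≠ 1 ∧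
    wordVal wH * x0 * (wordVal wH)⁻¹ = x0 ^ 3 := by
  have h := seven_ok
  simp only [sevenOK, Bool.and_eq_true, Bool.not_eq_true', beq_iff_eq, beq_eq_false_iff_ne] at h
  obtain ⟨⟨⟨⟨⟨⟨hx, hh⟩, h7⟩, h1⟩, hc⟩, -⟩, -⟩ := h
  have hx' := okWord_mem hx
  have hh' := okWord_mem hh
  refine ⟨hx', hh', ?_, fun e => h1 ((eq_one_iff hx').1 e), ?_⟩
  · rw [x0, ← val_powW]
    exact (eq_one_iff (powW_lt hx' 7)).2 h7
  · rw [x0, ← val_powW wX 3]
    exact val_conj hh' hx' (powW_lt hx' 3) hc

theorem alt_facts {a : List ℕ × List ℕ} (ha : a ∈ altW) : (∀ i ∈ a.2, i < 8) ∧ altWord a.1 = a.2 ∧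
    Commute x0 (wordVal a.2) ∧ (∀ b ∈ altW, keyOf (a.2 ++ b.2) = keyOf (altWord (imgMul a.1 b.1))) ∧
    ∀ j < 7, wordVal a.2 = x0 ^ j → a.1 = [0, 1, 2, 3] := by
  have h := seven_ok
  simp only [sevenOK, Bool.and_eq_true, List.all_eq_true, Bool.or_eq_true, Bool.not_eq_true', beq_iff_eq,
    beq_eq_false_iff_ne, List.mem_range] at h
  obtain ⟨⟨-, hall⟩, -⟩ := h
  obtain ⟨⟨⟨⟨hw, hl⟩, hc⟩, hm⟩, hk⟩ := hall a ha
  have hw' := okWord_mem hw
  refine ⟨hw', hl, val_comm x_facts.1 hw' hc, hm, fun j hj e => ?_⟩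
  refine (hk j hj).resolve_left fun hne => hne ?_
  rw [x0, ← val_powW] at e
  exact key_of_eq hw' (powW_lt x_facts.1 j) e

theorem img_entry {p : Equiv.Perm (Fin 4)} (hp : Equiv.Perm.sign p = 1) :
    ∃ a ∈ altW, a.1 = img p := by
  have h := img_mem p hp
  rw [List.contains_iff_mem] at h
  exact List.mem_map.1 h

/-- the alternating part -/
noncomputable def altHom : alternatingGroup (Fin 4) →* ↥suzGroup :=
  MonoidHom.mk' (fun p => wordVal (altWord (img (p : Equiv.Perm (Fin 4))))) fun p q => by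
    obtain ⟨a, ha, ea⟩ := img_entry p.2
    obtain ⟨b, hb, eb⟩ := img_entry q.2
    obtain ⟨c, hc, ec⟩ := img_entry (p * q).2
    obtain ⟨hw, hl, -, hm, -⟩ := alt_facts ha
    obtain ⟨hv, hl', -, -, -⟩ := alt_facts hb
    obtain ⟨hu, hlc, -, -, -⟩ := alt_facts hc
    rw [← ea, ← eb, hl, hl', ← wordVal_append]
    show wordVal (altWord (img ((p : Equiv.Perm (Fin 4)) * q))) = _
    rw [Subgroup.coe_mul] at ec
    have e : altWord (imgMul a.1 b.1) = c.2 := by rw [ea, eb, ← img_mul, ← ec, hlc]
    rw [← ec, hlc]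
    exact eq_of_key hu (append_lt hw hv) (by rw [hm b hb, e])

theorem altHom_commute (p : alternatingGroup (Fin 4)) : Commute x0 (altHom p) := by
  obtain ⟨a, ha, ea⟩ := img_entry p.2
  obtain ⟨-, hl, hc, -, -⟩ := alt_facts ha
  show Commute x0 (wordVal (altWord (img (p : Equiv.Perm (Fin 4)))))
  rw [← ea, hl]
  exact hc

theorem order_x0 : orderOf x0 = 7 :=
  haveI : Fact (Nat.Prime 7) := ⟨by norm_num⟩
  orderOf_eq_prime x_facts.2.2.1 x_facts.2.2.2.1

theorem card_B0 : Nat.card ↥B0 = 7 := by rw [B0, Nat.card_zpowers, order_x0]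

/-- the cyclic part -/
noncomputable def cycHom : Multiplicative (ZMod 7) →* ↥suzGroup :=
  B0.subtype.comp (mulEquivOfCyclicCardEq (G := Multiplicative (ZMod 7)) (G' := ↥B0)
    (hG := inferInstance) (hH := Subgroup.isCyclic_zpowers x0) (by rw [card_B0]; simp)).toMonoidHom

theorem cycHom_inj : Function.Injective cycHom :=
  B0.subtype_injective.comp (MulEquiv.injective _)

theorem cycHom_mem (i : Multiplicative (ZMod 7)) : cycHom i ∈ B0 := SetLike.coe_mem _

theorem cyc_commute (i : Multiplicative (ZMod 7)) (p : alternatingGroup (Fin 4)) :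
    Commute (cycHom i) (altHom p) := by
  obtain ⟨n, hn⟩ := Subgroup.mem_zpowers_iff.1 (cycHom_mem i)
  rw [← hn]
  exact (altHom_commute p).zpow_left n

/-- the centraliser -/
noncomputable def prodHom : Multiplicative (ZMod 7) × alternatingGroup (Fin 4) →* ↥suzGroup :=
  cycHom.noncommCoprod altHom cyc_commute

theorem prodHom_inj : Function.Injective prodHom := by
  rw [← MonoidHom.ker_eq_bot_iff, Subgroup.eq_bot_iff_forall]
  rintro ⟨i, p⟩ h
  rw [MonoidHom.mem_ker, prodHom, MonoidHom.noncommCoprod_apply] at h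
  have hp : altHom p ∈ B0 := by
    rw [eq_inv_of_mul_eq_one_right h]
    exact inv_mem (cycHom_mem i)
  obtain ⟨j, hj, ej⟩ := (isOfFinOrder_of_finite x0).mem_zpowers_iff_mem_range_orderOf.1 hp |> Finset.mem_image.1
  rw [order_x0, Finset.mem_range] at hj
  obtain ⟨a, ha, ea⟩ := img_entry p.2
  obtain ⟨-, hl, -, -, hk⟩ := alt_facts ha
  have e1 : a.1 = [0, 1, 2, 3] := hk j hj (by rw [ej, ← hl, ea]; rfl)
  have p1 : p = 1 := Subtype.ext (img_inj (by rw [← ea, e1]; rfl))
  rw [p1, map_one, mul_one] at h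
  exact Prod.ext (cycHom_inj (h.trans (map_one _).symm)) p1

theorem card_target : Nat.card (Multiplicative (ZMod 7) × alternatingGroup (Fin 4)) = 84 := by
  rw [Nat.card_prod, nat_card_alternatingGroup, Nat.card_eq_fintype_card]
  simp [Fintype.card_multiplicative, ZMod.card, Nat.factorial]

theorem cent_range : prodHom.range = Subgroup.centralizer (B0 : Set ↥suzGroup) := by
  refine Subgroup.eq_of_le_of_card_ge ?_ ?_
  · rintro _ ⟨⟨i, p⟩, rfl⟩ y hy
    obtain ⟨n, rfl⟩ := Subgroup.mem_zpowers_iff.1 hy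
    rw [prodHom, MonoidHom.noncommCoprod_apply]
    obtain ⟨m, hm⟩ := Subgroup.mem_zpowers_iff.1 (cycHom_mem i)
    rw [← hm]
    exact (((Commute.refl x0).zpow_right m).mul_right (altHom_commute p)).zpow_left n
  · rw [← Nat.card_congr (MonoidHom.ofInjective prodHom_inj).toEquiv, card_target]
    have h := seven_ok
    simp only [sevenOK, Bool.and_eq_true, Nat.beq_eq] at h
    obtain ⟨-, hlen⟩ := h
    classical
    refine le_trans ?_ hlen.le
    refine le_trans ?_ (List.length_map (f := fun R : ℕ × ℕ × ℕ × List ℕ => wordVal R.2.2.2)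
      (as := xRows.filter fun R => Nat.beq R.2.2.1 0)).le
    rw [← SetLike.coe_sort_coe, Nat.card_coe_set_eq]
    refine le_trans (Set.ncard_le_ncard (t := (List.toFinset _ : Finset ↥suzGroup)) (fun c hc => ?_)
      (Finset.finite_toSet _)) (by rw [Set.ncard_coe_finset]; exact List.toFinset_card_le _)
    obtain ⟨R, hR, h0, rfl⟩ := cent_spec xCent_ok (c := c) (hc x0 (Subgroup.mem_zpowers x0)).symm
    simp only [Finset.mem_coe, List.mem_toFinset, List.mem_map, List.mem_filter]
    exact ⟨R, ⟨hR, Nat.beq_eq.mpr h0⟩, rfl⟩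

/-- The centraliser. -/
noncomputable def centB0 :
    Multiplicative (ZMod 7) × alternatingGroup (Fin 4) ≃* ↥(Subgroup.centralizer (B0 : Set ↥suzGroup)) :=
  (MonoidHom.ofInjective prodHom_inj).trans (MulEquiv.subgroupCongr cent_range)

theorem card_normalizer_B0 : Nat.card ↥(Subgroup.normalizer (B0 : Set ↥suzGroup)) = 504 := by
  haveI : IsCyclic ↥B0 := Subgroup.isCyclic_zpowers x0
  set f := B0.normalizerMonoidHom
  have hker : Nat.card ↥f.ker = 84 := by
    rw [Subgroup.normalizerMonoidHom_ker, Nat.card_congr (Subgroup.subgroupOfEquivOfLe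
      (Subgroup.centralizer_le_normalizer _)).toEquiv, ← Nat.card_congr centB0.toEquiv, card_target]
  have haut : Nat.card (MulAut ↥B0) = 6 := by
    rw [IsCyclic.card_mulAut, card_B0]; rfl
  obtain ⟨hx, hh, h7, h1, hc⟩ := x_facts
  have hN : wordVal wH ∈ Subgroup.normalizer (B0 : Set ↥suzGroup) := by
    have hmap : B0.map (MulAut.conj (wordVal wH)).toMonoidHom = B0 := by
      refine Subgroup.eq_of_le_of_card_ge ?_ ?_
      · rw [B0, MonoidHom.map_zpowers, Subgroup.zpowers_le]
        show wordVal wH * x0 * (wordVal wH)⁻¹ ∈ _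
        rw [hc]
        exact pow_mem (Subgroup.mem_zpowers x0) 3
      · exact (Nat.card_congr (B0.equivMapOfInjective _ (MulEquiv.injective _)).toEquiv).le
    exact Subgroup.mem_normalizer_iff.2 fun y => by
      conv_rhs => rw [← hmap]
      exact (Subgroup.mem_map_iff_mem (f := (MulAut.conj (wordVal wH)).toMonoidHom) (MulEquiv.injective _)).symm
  set a := f ⟨_, hN⟩ with ha
  have key : ∀ m : ℕ, (((a ^ m) ⟨x0, Subgroup.mem_zpowers x0⟩ : ↥B0) : ↥suzGroup) = x0 ^ (3 ^ m) := by
    intro m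
    induction m with
    | zero => simp
    | succ m ih =>
      rw [pow_succ', MulAut.mul_apply]
      show wordVal wH * (((a ^ m) ⟨x0, Subgroup.mem_zpowers x0⟩ : ↥B0) : ↥suzGroup) * (wordVal wH)⁻¹ = _
      rw [ih, ← conj_pow, hc, ← pow_mul, pow_succ' 3 m]
  have hne : ∀ m, 0 < m → m < 6 → a ^ m ≠ 1 := fun m hm0 hm e => by
    have h2 := key m
    rw [e, MulAut.one_apply] at h2
    have h3 : x0 ^ (3 ^ m % 7) = x0 ^ 1 := by
      rw [pow_one, ← order_x0, pow_mod_orderOf]
      exact h2.symm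
    have h4 := (pow_eq_pow_iff_modEq.1 h3)
    rw [order_x0] at h4
    interval_cases m <;> exact absurd h4 (by decide)
  have ha6 : orderOf a = 6 := by
    have hd : orderOf a ∣ 6 := haut ▸ orderOf_dvd_natCard a
    by_contra hc6
    exact hne _ (orderOf_pos a) (lt_of_le_of_ne (Nat.le_of_dvd (by norm_num) hd) hc6) (pow_orderOf_eq_one a)
  have hrange : Nat.card ↥f.range = 6 := by
    refine le_antisymm (haut ▸ Subgroup.card_le_card_group _) ?_
    rw [← ha6, ← Nat.card_zpowers]
    exact Subgroup.card_le_of_le (Subgroup.zpowers_le.2 ⟨_, rfl⟩)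
  rw [Subgroup.card_eq_card_quotient_mul_card_subgroup f.ker,
    Nat.card_congr (QuotientGroup.quotientKerEquivRange f).toEquiv, hrange, hker]

/-- Both facts for every subgroup of order seven. -/
theorem seven_local (B : Subgroup ↥suzGroup) (hB : Nat.card ↥B = 7) :
    Nonempty (↥(Subgroup.centralizer (B : Set ↥suzGroup)) ≃* Multiplicative (ZMod 7) × alternatingGroup (Fin 4)) ∧
      Nat.card ↥(Subgroup.normalizer (B : Set ↥suzGroup)) = 504 := by
  haveI : Fact (Nat.Prime 7) := ⟨by norm_num⟩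
  have hf := factorization_card (p := 7) (k := 1) (m := 64049356800) (by norm_num) (by norm_num) (by norm_num)
  obtain ⟨g, hg⟩ := MulAction.exists_smul_eq ↥suzGroup
    (Sylow.ofCard (p := 7) B0 (by rw [hf, pow_one, card_B0])) (Sylow.ofCard (p := 7) B (by rw [hf, pow_one, hB]))
  have e : B0.map (MulAut.conj g).toMonoidHom = B := congrArg Sylow.toSubgroup hg
  rw [← e]
  exact ⟨⟨(centEquiv (MulAut.conj g) B0).symm.trans centB0.symm⟩,
    (card_normalizer_map (MulAut.conj g) B0).trans card_normalizer_B0⟩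

/-- The statement in any isomorphic group. -/
theorem seven_transport {G : Type*} [Group G] [Finite G] (e : G ≃* ↥suzGroup) (B : Sylow 7 G) :
    Nonempty (↥(Subgroup.centralizer ((B : Subgroup G) : Set G)) ≃* Multiplicative (ZMod 7) × alternatingGroup (Fin 4)) ∧
      Nat.card ↥(Subgroup.normalizer ((B : Subgroup G) : Set G)) = 504 := by
  haveI : Fact (Nat.Prime 7) := ⟨by norm_num⟩
  have hc : Nat.card ↥((B : Subgroup G).map e.toMonoidHom) = 7 := by
    refine (Nat.card_congr (e.subgroupMap _).toEquiv).symm.trans ?_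
    rw [Sylow.card_eq_multiplicity, Nat.card_congr e.toEquiv,
      factorization_card (p := 7) (k := 1) (m := 64049356800) (by norm_num) (by norm_num) (by norm_num), pow_one]
  obtain ⟨⟨c⟩, hn⟩ := seven_local _ hc
  exact ⟨⟨(centEquiv e _).trans c⟩, (card_normalizer_map e _).symm.trans hn⟩

end Cfsg.Agent.SuzLocal
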