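import Cfsg.Agent.Lib.SuzHom.Finish
import Cfsg.Agent.Lib.SuzRecog.Main

/-! A group of Suzuki sporadic type is the group on 1782 points. -/

set_option autoImplicit false
set_option maxRecDepth 100000

namespace Cfsg.Agent.SuzLocal

open Cfsg.Agent.RigidGraph.Suz (suzGroup presentedEquiv)

attribute [local irreducible] suzGroup SuzRecog.eA

/-- The isomorphism, with the involution at the first generator. -/
theorem exists_suz_model {G : Type*} [Group G] [Finite G] (z : G) (hz : orderOf z = 2)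
    (Q : Subgroup (Subgroup.centralizer ({z} : Set G))) [Q.Normal]
    (hF : Cfsg.generalizedFittingSubgroup (Subgroup.centralizer ({z} : Set G)) = Q)
    (hQ : Cfsg.IsExtraspecial 2 Q) (hcard : Nat.card Q = 2 ^ 7)
    (e : (Subgroup.centralizer ({z} : Set G)) ⧸ Q ≃* Cfsg.Omega (ZMod 2) (Cfsg.quadFormMinus 2 (ZMod 2) 1 1))
    (hnwc : ∃ g : G, (∃ hq : g * z * g⁻¹ ∈ Subgroup.centralizer ({z} : Set G),
      (⟨g * z * g⁻¹, hq⟩ : Subgroup.centralizer ({z} : Set G)) ∈ Q) ∧ g * z * g⁻¹ ≠ z) :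
    ∃ φ : G ≃* ↥suzGroup, φ z = SuzRecog.eA := by
  obtain ⟨f, hf⟩ := SuzHom.exists_suz_hom z hz Q hF hQ hcard e hnwc
  let E : Cfsg.Spor.Suz ≃* G := MulEquiv.ofBijective f (SuzRecog.suz_bijective z hz Q hF hQ hcard e f hf)
  refine ⟨E.symm.trans presentedEquiv, ?_⟩
  rw [MulEquiv.trans_apply, show E.symm z = PresentedGroup.of Cfsg.Spor.Suz.Gen.a from
    E.symm_apply_eq.2 hf.symm, SuzRecog.presentedEquiv_a]

end Cfsg.Agent.SuzLocal
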